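import Cfsg.Agent.R2.Spec.SD.Row

/-!
# Small ranks (helper10): the numbers of `S` are in the tables
-/

set_option autoImplicit false

namespace Cfsg.Agent.R2.Spec.SD

open Cfsg Cfsg.Agent.H426.LieFam Cfsg.Agent.R2.Spec Cfsg.Agent.R2.Spec.P1 Cfsg.Agent.R2.Spec.F1 Cfsg.Agent.R2.Spec.E

/-- the degree of the isolated numbers of `S` -/
def dg : Fam → ℕ
  | .psl m => m - 1
  | .psu m => m - 1
  | .psp m => m
  | .oodd m => m
  | .oplus m => if m % 2 = 0 then m - 1 else m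
  | .ominus m => m
  | _ => 0

theorem of_mul {P G F : ℕ} (hG : 0 < G) (h : P * G = F) : P = F / G :=
  (Nat.div_eq_of_eq_mul_left hG h.symm).symm

theorem bd1 {P G F d u : ℕ} (h : P * G = F) (hG : G ≤ d + 1) (hF : u ^ d ≤ 2 * F) : u ^ d ≤ 2 * (d + 1) * P := by
  calc u ^ d ≤ 2 * F := hF
    _ = 2 * (P * G) := by rw [h]
    _ ≤ 2 * (P * (d + 1)) := Nat.mul_le_mul_left _ (Nat.mul_le_mul_left _ hG)
    _ = _ := by ring

theorem bd2 {P G F d u w : ℕ} (hw : 0 < w) (h : P * (G * w) = F) (hG : G ≤ d + 1) (hF : u ^ d * w ≤ 2 * F) :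
    u ^ d ≤ 2 * (d + 1) * P := by
  refine Nat.le_of_mul_le_mul_right ?_ hw
  calc u ^ d * w ≤ 2 * F := hF
    _ = 2 * (P * (G * w)) := by rw [h]
    _ ≤ 2 * (P * ((d + 1) * w)) := Nat.mul_le_mul_left _ (Nat.mul_le_mul_left _ (Nat.mul_le_mul_right _ hG))
    _ = _ := by ring

theorem pow_ge {u d : ℕ} (hu : 2 ≤ u) (hd : 3 ≤ d) : 8 ≤ u ^ d :=
  calc 8 = 2 ^ 3 := by norm_num
    _ ≤ u ^ 3 := Nat.pow_le_pow_left hu 3
    _ ≤ u ^ d := Nat.pow_le_pow_right (by omega) hd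

theorem g4_le (x : ℕ) : Nat.gcd 4 x ≤ 4 := Nat.le_of_dvd (by norm_num) (Nat.gcd_dvd_left _ _)
theorem g2_le (x : ℕ) : Nat.gcd 2 x ≤ 2 := Nat.le_of_dvd (by norm_num) (Nat.gcd_dvd_left _ _)
theorem gm_le {m : ℕ} (hm : 0 < m) (x : ℕ) : Nat.gcd m x ≤ m := Nat.le_of_dvd hm (Nat.gcd_dvd_left _ _)
theorem g_pos {m : ℕ} (hm : 0 < m) (x : ℕ) : 0 < Nat.gcd m x := Nat.gcd_pos_of_pos_left _ hm

theorem inV_psp {u m i' : ℕ} (hu : 2 ≤ u) (hm : 3 ≤ m) (ht : top (.psp m) i') :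
    ttor (.psp m) u i' ∈ V m u ∧ u ^ m ≤ 2 * (m + 1) * ttor (.psp m) u i' ∧
      (m = 3 → ttor (.psp m) u i' ∈ V3 u) := by
  obtain ⟨h1, h2⟩ := val_psp (n := m) (q := u) (by omega) hu
  have hg := g_pos (m := 2) (by norm_num) (u - 1)
  have hg' := g2_le (u - 1)
  have hp := pow_ge hu hm
  rcases ht with rfl | ⟨rfl, -⟩
  · have h3 := of_mul hg h1
    refine ⟨by rw [h3]; simp [V], bd1 h1 (by omega) (by omega), fun h => by subst h; rw [h3]; simp [V3]⟩
  · have h3 := of_mul hg h2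
    refine ⟨by rw [h3]; simp [V], bd1 h2 (by omega) (by omega), fun h => by subst h; rw [h3]; simp [V3]⟩

theorem inV_psl {u m i' : ℕ} (hu : 2 ≤ u) (hm : 4 ≤ m) (ht : top (.psl m) i') :
    ttor (.psl m) u i' ∈ V (m - 1) u ∧ u ^ (m - 1) ≤ 2 * (m - 1 + 1) * ttor (.psl m) u i' ∧
      (m - 1 = 3 → ttor (.psl m) u i' ∈ V3 u) := by
  obtain ⟨h1, h2⟩ := val_psl (n := m) (q := u) (by omega) hu
  have hg := g_pos (m := m) (by omega) (u - 1)
  have hg' := gm_le (m := m) (by omega) (u - 1)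
  obtain ⟨d, rfl⟩ : ∃ d, m = d + 1 := ⟨m - 1, by omega⟩
  rw [Nat.add_sub_cancel] at h2 ⊢
  have hp := pow_ge (d := d) hu (by omega)
  rcases ht with ⟨-, rfl | h⟩
  · have h3 := of_mul (Nat.mul_pos hg (by omega)) h1
    refine ⟨by rw [h3]; simp [V], bd2 (show 0 < u - 1 by omega) h1 hg' ?_, fun h => by subst h; rw [h3]; simp [V3]⟩
    obtain ⟨w, rfl⟩ : ∃ w, u = w + 1 := ⟨u - 1, by omega⟩
    rw [Nat.add_sub_cancel, pow_succ, mul_add, mul_one]
    have : 0 < (w + 1) ^ d * w := Nat.mul_pos (by omega) (by omega)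
    omega
  · obtain rfl : i' = d := by omega
    have h3 := of_mul hg h2
    refine ⟨by rw [h3]; simp [V], bd1 h2 hg' (by omega), fun h => by subst h; rw [h3]; simp [V3]⟩

theorem inV_psu {u m i' : ℕ} (hu : 2 ≤ u) (hm : 4 ≤ m) (ht : top (.psu m) i') :
    ttor (.psu m) u i' ∈ V (m - 1) u ∧ u ^ (m - 1) ≤ 2 * (m - 1 + 1) * ttor (.psu m) u i' ∧
      (m - 1 = 3 → ttor (.psu m) u i' ∈ V3 u) := by
  obtain ⟨h1, h2⟩ := val_psu (n := m) (q := u) (by omega) hu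
  have hg := g_pos (m := m) (by omega) (u + 1)
  have hg' := gm_le (m := m) (by omega) (u + 1)
  obtain ⟨d, rfl⟩ : ∃ d, m = d + 1 := ⟨m - 1, by omega⟩
  rw [Nat.add_sub_cancel] at h2 ⊢
  have hp := pow_ge (d := d) hu (by omega)
  have e1 : u ^ d * (u + 1) = u ^ (d + 1) + u ^ d := by ring
  have e2 : 2 * u ^ d ≤ u ^ (d + 1) := by
    rw [pow_succ, mul_comm]
    exact Nat.mul_le_mul_left _ hu
  rcases ht with ⟨-, rfl | h⟩
  · have h3 := of_mul (Nat.mul_pos hg (by omega)) h1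
    split_ifs at h1 h3 with h0
    · refine ⟨by rw [h3]; simp [V], bd2 (show 0 < u + 1 by omega) h1 hg' (by omega), fun h => by
        subst h; rw [h3]; simp [V3]⟩
    · refine ⟨by rw [h3]; simp [V], bd2 (show 0 < u + 1 by omega) h1 hg' (by omega), fun h => by omega⟩
  · obtain rfl : i' = d := by omega
    have h3 := of_mul hg h2
    split_ifs at h2 h3 with h0
    · refine ⟨by rw [h3]; simp [V], bd1 h2 hg' (by omega), fun h => by subst h; rw [h3]; simp [V3]⟩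
    · refine ⟨by rw [h3]; simp [V], bd1 h2 hg' (by omega), fun h => by omega⟩

theorem inV_oplus_odd {u m i' : ℕ} (hu : 2 ≤ u) (hm : 4 ≤ m) (hm2 : m % 2 = 1) (ht : top (.oplus m) i') :
    ttor (.oplus m) u i' ∈ V m u ∧ u ^ m ≤ 2 * (m + 1) * ttor (.oplus m) u i' := by
  obtain ⟨h1, h2⟩ := val_oplus_odd (n := m) (q := u) (by omega) hm2 hu
  have hg := g_pos (m := 4) (by norm_num) (u ^ m - 1)
  have hg' := g4_le (u ^ m - 1)
  have hp := pow_ge (d := m) hu (by omega)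
  rcases ht with ⟨rfl, -⟩ | rfl | ⟨-, h0⟩
  · have h3 := of_mul hg h1
    exact ⟨by rw [h3]; simp [V], bd1 h1 (by omega) (by omega)⟩
  · have h3 := of_mul hg h2
    refine ⟨by rw [h3]; simp [V], bd1 h2 (by omega) ?_⟩
    have : u ^ m = u ^ (m - 1) * u := by rw [← pow_succ]; congr 1; omega
    nlinarith
  · omega

theorem inV_oplus_even {u m i' : ℕ} (hu : 2 ≤ u) (hm : 4 ≤ m) (hm2 : m % 2 = 0) (ht : top (.oplus m) i') :
    ttor (.oplus m) u i' ∈ V (m - 1) u ∧ u ^ (m - 1) ≤ 2 * (m - 1 + 1) * ttor (.oplus m) u i' ∧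
      (m - 1 = 3 → ttor (.oplus m) u i' ∈ V3 u) := by
  obtain ⟨h1, h2⟩ := val_oplus_even (n := m) (q := u) hm hm2 hu
  have hg := g_pos (m := 2) (by norm_num) (u - 1)
  have hg' := g2_le (u - 1)
  have hp := pow_ge (d := m - 1) hu (by omega)
  rcases ht with ⟨-, h0⟩ | rfl | ⟨rfl, -⟩
  · omega
  · have h3 := of_mul hg h1
    refine ⟨by rw [h3]; simp [V], bd1 h1 (by omega) (by omega), fun h => by rw [h3, h]; simp [V3]⟩
  · have h3 := of_mul hg h2
    refine ⟨by rw [h3]; simp [V], bd1 h2 (by omega) (by omega), fun h => by rw [h3, h]; simp [V3]⟩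

theorem inV_ominus {u m i' : ℕ} (hu : 2 ≤ u) (hm : 4 ≤ m) (ht : top (.ominus m) i') :
    ttor (.ominus m) u i' ∈ V m u ∧ u ^ m ≤ 2 * (m + 1) * ttor (.ominus m) u i' := by
  obtain ⟨h1, h2, h3⟩ := val_ominus (n := m) (q := u) (by omega) hu
  have hg := g_pos (m := 4) (by norm_num) (u ^ m + 1)
  have hg' := g4_le (u ^ m + 1)
  have hp := pow_ge (d := m) hu (by omega)
  have hp1 := pow_ge (d := m - 1) hu (by omega)
  have e1 : u ^ m = u ^ (m - 1) * u := by rw [← pow_succ]; congr 1; omega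
  rcases ht with rfl | rfl | ⟨rfl, -⟩
  · have h4 := of_mul hg h1
    exact ⟨by rw [h4]; simp [V], bd1 h1 (by omega) (by omega)⟩
  · have h4 := of_mul hg h2
    refine ⟨by rw [h4]; simp [V], bd1 h2 (by omega) ?_⟩
    obtain ⟨w, rfl⟩ : ∃ w, u = w + 2 := ⟨u - 2, by omega⟩
    rw [e1, show w + 2 - 1 = w + 1 by omega]
    obtain ⟨x, hx⟩ : ∃ x, x = (w + 2) ^ (m - 1) := ⟨_, rfl⟩
    rw [← hx]
    nlinarith
  · have h4 := of_mul hg h3
    refine ⟨by rw [h4]; simp [V], bd1 h3 (by omega) ?_⟩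
    obtain ⟨x, hx⟩ : ∃ x, u ^ (m - 1) = x + 1 := ⟨u ^ (m - 1) - 1, by omega⟩
    rw [e1, hx, Nat.add_sub_cancel]
    nlinarith

/-- **The isolated numbers of `S` are in the tables.** -/
theorem inV {t' : Fam} {u i' : ℕ} (hu : 2 ≤ u) (hr : RkS t') (ht : top t' i') :
    3 ≤ dg t' ∧ ttor t' u i' ∈ V (dg t') u ∧ u ^ dg t' ≤ 2 * (dg t' + 1) * ttor t' u i' ∧
      (dg t' = 3 → ttor t' u i' ∈ V3 u) := by
  have hr3 : 3 ≤ rk t' := by
    rcases hr with h | rfl | rfl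
    · omega
    · exact le_rfl
    · exact le_rfl
  have h4 : (∀ n, t' ≠ .psp n ∧ t' ≠ .oodd n) → 4 ≤ rk t' := by
    intro hn
    rcases hr with h | h | h
    · exact h
    · exact absurd h (hn 3).1
    · exact absurd h (hn 3).2
  cases t' with
  | psl m =>
    have h5 : 4 ≤ m := h4 fun n => ⟨by simp, by simp⟩
    obtain ⟨a, b, c⟩ := inV_psl hu h5 ht
    exact ⟨show 3 ≤ m - 1 by omega, a, b, c⟩
  | psu m =>
    have h5 : 4 ≤ m := h4 fun n => ⟨by simp, by simp⟩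
    obtain ⟨a, b, c⟩ := inV_psu hu h5 ht
    exact ⟨show 3 ≤ m - 1 by omega, a, b, c⟩
  | psp m =>
    obtain ⟨a, b, c⟩ := inV_psp hu hr3 ht
    exact ⟨hr3, a, b, c⟩
  | oodd m =>
    rw [ttor_oodd]
    obtain ⟨a, b, c⟩ := inV_psp hu hr3 ht
    exact ⟨hr3, a, b, c⟩
  | oplus m =>
    have h5 : 4 ≤ m := h4 fun n => ⟨by simp, by simp⟩
    rcases Nat.mod_two_eq_zero_or_one m with h | h
    · have hd : dg (.oplus m) = m - 1 := by rw [dg, if_pos h]
      rw [hd]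
      obtain ⟨a, b, c⟩ := inV_oplus_even hu h5 h ht
      exact ⟨by omega, a, b, c⟩
    · have hd : dg (.oplus m) = m := by rw [dg, if_neg (by omega)]
      rw [hd]
      obtain ⟨a, b⟩ := inV_oplus_odd hu h5 h ht
      exact ⟨by omega, a, b, fun h => by omega⟩
  | ominus m =>
    have h5 : 4 ≤ m := h4 fun n => ⟨by simp, by simp⟩
    obtain ⟨a, b⟩ := inV_ominus hu h5 ht
    exact ⟨show 3 ≤ m by omega, a, b, fun h => by change m = 3 at h; omega⟩
  | _ => exact ht.elim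

theorem val_of {t' : Fam} {u i' : ℕ} (hu : 2 ≤ u) (hr : RkS t') (ht : top t' i') : Val u (ttor t' u i') := by
  obtain ⟨h1, h2, h3, h4⟩ := inV hu hr ht
  by_cases h5 : dg t' = 3
  · right
    refine ⟨h4 h5, ?_⟩
    rw [h5] at h3
    omega
  · left
    exact ⟨_, by omega, h2, h3⟩

theorem val5_of {t' : Fam} {u i' : ℕ} (hu : 2 ≤ u) (hr : RkFive t') (ht : top t' i') : Val5 u (ttor t' u i') := by
  have h4 : RkS t' := by
    left
    cases t' with
    | psl m => exact le_trans (by norm_num) (show 9 ≤ m from hr)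
    | psu m => exact le_trans (by norm_num) (show 9 ≤ m from hr)
    | psp m => exact le_trans (by norm_num) (show 5 ≤ m from hr)
    | oodd m => exact le_trans (by norm_num) (show 5 ≤ m from hr)
    | oplus m => exact le_trans (by norm_num) (show 7 ≤ m from hr)
    | ominus m => exact le_trans (by norm_num) (show 6 ≤ m from hr)
    | _ => exact hr.elim
  have h5 : 5 ≤ dg t' := by
    cases t' with
    | psl m => have : 9 ≤ m := hr; change 5 ≤ m - 1; omega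
    | psu m => have : 9 ≤ m := hr; change 5 ≤ m - 1; omega
    | psp m => exact hr
    | oodd m => exact hr
    | oplus m =>
      have : 7 ≤ m := hr
      rw [dg]
      split_ifs <;> omega
    | ominus m => have : 6 ≤ m := hr; change 5 ≤ m; omega
    | _ => exact hr.elim
  obtain ⟨h1, h2, h3, -⟩ := inV hu h4 ht
  exact ⟨_, h5, h2, h3⟩

end Cfsg.Agent.R2.Spec.SD
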