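import Cfsg.Agent.R2.Spec.SD.Row
import Cfsg.Agent.R2.Spec.SD.SVal

/-!
# Small ranks (helper28): the exception `q = 3`, `P = 41`, `u = 4`
-/

set_option autoImplicit false
set_option linter.unusedSectionVars false

namespace Cfsg.Agent.R2.Spec.SD

open Cfsg Cfsg.Agent.H426.LieFam Cfsg.Agent.R2.Spec Cfsg.Agent.R2.Spec.P1 Cfsg.Agent.R2.Spec.F1 Cfsg.Agent.R2.Spec.E

universe u

theorem exc3_key (k : ℕ) : (k + 6) * 82 < 4 ^ (k + 5) := by
  induction k with
  | zero => norm_num
  | succ k ih =>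
    have h1 : (k + 1 + 6) * 82 ≤ (k + 6) * 82 * 4 := by nlinarith
    have h2 : (k + 6) * 82 * 4 < 4 ^ (k + 5) * 4 := Nat.mul_lt_mul_of_pos_right ih (by norm_num)
    have h3 : 4 ^ (k + 1 + 5) = 4 ^ (k + 5) * 4 := by rw [← pow_succ]
    exact (h1.trans_lt h2).trans_eq h3.symm

theorem exc3_deg {d : ℕ} (h : 4 ^ d ≤ 2 * (d + 1) * 41) : d ≤ 4 := by
  rcases Nat.lt_or_ge 4 d with hd | hd
  · obtain ⟨k, rfl⟩ : ∃ k, d = k + 5 := ⟨d - 5, by omega⟩
    have h1 := exc3_key k
    rw [show 2 * (k + 5 + 1) * 41 = (k + 6) * 82 by ring] at h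
    exact absurd h (Nat.not_le.2 h1)
  · exact hd

theorem exc3_w {w j : ℕ} (hw : w.Prime) (hw5 : 5 ≤ w) (hj : j = 5 ∨ j = 10) (ho : orderOf ((3 : ℕ) : ZMod w) = j) :
    w = 11 ∨ w = 61 := by
  have h1 : ((3 : ℕ) : ZMod w) ^ 10 = 1 := by
    rcases hj with rfl | rfl
    · rw [show (10 : ℕ) = 5 * 2 from rfl, pow_mul, ← ho, pow_orderOf_eq_one, one_pow]
    · rw [← ho, pow_orderOf_eq_one]
  have h2 : ((59048 : ℕ) : ZMod w) = 0 := by
    have h3 : ((59048 : ℕ) : ZMod w) + 1 = ((3 : ℕ) : ZMod w) ^ 10 := by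
      rw [← Nat.cast_pow, ← Nat.cast_one, ← Nat.cast_add, show 59048 + 1 = 3 ^ 10 by norm_num]
    rw [h1] at h3
    exact add_eq_right.1 h3
  rw [ZMod.natCast_eq_zero_iff] at h2
  rw [show 59048 = 2 ^ 3 * 11 ^ 2 * 61 by norm_num] at h2
  rcases hw.dvd_mul.1 h2 with h2 | h2
  · rcases hw.dvd_mul.1 h2 with h2 | h2
    · have := (Nat.prime_dvd_prime_iff_eq hw Nat.prime_two).1 (hw.dvd_of_dvd_pow h2)
      omega
    · exact Or.inl ((Nat.prime_dvd_prime_iff_eq hw (by norm_num)).1 (hw.dvd_of_dvd_pow h2))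
  · exact Or.inr ((Nat.prime_dvd_prime_iff_eq hw (by norm_num)).1 h2)

theorem exc3_four {w j : ℕ} (hw : w = 11 ∨ w = 61) (h3 : 3 ≤ j) (h8 : j ≤ 8) (h : ((4 : ℤ) : ZMod w) ^ j = 1) : j = 5 := by
  rcases hw with rfl | rfl
  · interval_cases j <;> first | rfl | (exfalso; revert h; decide)
  · interval_cases j <;> first | rfl | (exfalso; revert h; decide)

theorem exc3_mfour {w j : ℕ} (hw : w = 11 ∨ w = 61) (h3 : 3 ≤ j) (h8 : j ≤ 5) : ((-4 : ℤ) : ZMod w) ^ j ≠ 1 := by
  rcases hw with rfl | rfl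
  · interval_cases j <;> decide
  · interval_cases j <;> decide

variable {t t' : Fam} {p f i j v f' i' j' w H : ℕ} {S : Type u} [Group S]

/-- **The exception.** -/
theorem Duel.sd_exc (h : Duel t p f i j t' v f' i' j' w H S) (hsd : SDL t) (hq : p ^ f = 3)
    (hP : ttor t' (v ^ f') i' = 41) (hu : v ^ f' = 4) : False := by
  obtain ⟨c, c', g, hr⟩ := row (q := 3) hsd le_rfl rfl h.pair
  have hM := h.eqM
  rw [hq, hP] at hM
  have hw : w = 11 ∨ w = 61 := by
    have hj : j = 5 ∨ j = 10 := by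
      have h1 := hr.eqi
      rw [hM] at h1
      have hc := hr.hc
      have h2 : c = 2 ∨ c = 5 := by
        have e0 : FF 0 3 = 242 := by decide
        have e1 : FF 1 3 = 244 := by decide
        have e3 : FF 3 3 = 730 := by decide
        have e4 : FF 4 3 = 488 := by decide
        rcases hr.hg with rfl | rfl <;> interval_cases c <;> omega
      rw [hr.jj]
      rcases hr.typ with ⟨-, -, ⟨rfl, rfl⟩ | ⟨rfl, rfl⟩⟩ | ⟨-, ⟨rfl, rfl⟩ | ⟨rfl, rfl⟩⟩ | ⟨-, ⟨rfl, rfl⟩ | ⟨rfl, rfl⟩⟩ |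
        ⟨-, -, ⟨rfl, rfl⟩ | ⟨rfl, rfl⟩⟩ <;> first | exact Or.inl rfl | exact Or.inr rfl | (exfalso; omega)
    have h3 := h.clsw
    rw [hq, cls_ord hsd.ne_psu] at h3
    exact exc3_w h.w_prime h.w5 hj h3
  have hpow : ((sg t' 4 : ℤ) : ZMod w) ^ j' = 1 := by
    have h1 := h.clsw'
    rw [hu] at h1
    rw [← h1, cls, pow_orderOf_eq_one]
  have hr' : RkS t' := by
    obtain ⟨b1, b2, b3, b4, b5⟩ := h.big
    have his := h.is
    cases t' with
    | psl m =>
      have h1 : 2 ≤ m := his.1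
      have : m ≠ 2 := fun h => b2 (by rw [h])
      have : m ≠ 3 := fun h => b3 (by rw [h])
      exact Or.inl (show 4 ≤ m by omega)
    | psu m =>
      have h1 : 3 ≤ m := his.1
      have : m ≠ 3 := fun h => b4 (by rw [h])
      exact Or.inl (show 4 ≤ m by omega)
    | psp m =>
      have h1 : 2 ≤ m := his.1
      have : m ≠ 2 := fun h => b5 (by rw [h])
      by_cases h3 : m = 3
      · exact Or.inr (Or.inl (by rw [h3]))
      · exact Or.inl (show 4 ≤ m by omega)
    | oodd m =>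
      have h1 : 3 ≤ m := his.1
      by_cases h3 : m = 3
      · exact Or.inr (Or.inr (by rw [h3]))
      · exact Or.inl (show 4 ≤ m by omega)
    | oplus m => exact Or.inl his.1
    | ominus m => exact Or.inl his.1
    | _ => exact b1.elim
  have htop := h.topi'
  obtain ⟨-, -, hb, -⟩ := inV (u := 4) (by norm_num) hr' htop
  rw [hu] at hP
  rw [hP] at hb
  have hd := exc3_deg hb
  have hj3 := h.j'3
  have hmem := h.memj'
  have heta : ∀ m, eta j' ≤ m → j' ≤ 2 * m := by
    intro m hm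
    rw [eta] at hm
    split_ifs at hm <;> omega
  have heta5 : j' = 5 → eta j' = 5 := fun h => by rw [h]; rfl
  cases t' with
  | psl m =>
    change m - 1 ≤ 4 at hd
    change j' ≤ m at hmem
    obtain rfl := exc3_four hw hj3 (by omega) hpow
    obtain rfl : m = 5 := by omega
    rcases htop with ⟨-, rfl | h1⟩
    · exact absurd hP (by decide)
    · obtain rfl : i' = 4 := by omega
      exact absurd hP (by decide)
  | psu m =>
    change m - 1 ≤ 4 at hd
    change j' ≤ m at hmem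
    exact exc3_mfour hw hj3 (by omega) hpow
  | psp m =>
    change m ≤ 4 at hd
    change eta j' ≤ m at hmem
    have h1 := heta m hmem
    have h2 := heta5 (exc3_four hw hj3 (by omega) hpow)
    omega
  | oodd m =>
    change m ≤ 4 at hd
    change eta j' ≤ m at hmem
    have h1 := heta m hmem
    have h2 := heta5 (exc3_four hw hj3 (by omega) hpow)
    omega
  | oplus m =>
    have hm : m ≤ 4 := by
      rw [dg] at hd
      split_ifs at hd with h0
      · omega
      · exact hd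
    change eta j' + 1 ≤ m ∨ (j' = m ∧ m % 2 = 1) at hmem
    have h8 : j' ≤ 8 := by
      rcases hmem with h1 | h1
      · have := heta (m - 1) (by omega)
        omega
      · omega
    have h1 := exc3_four hw hj3 h8 hpow
    have h2 := heta5 h1
    omega
  | ominus m =>
    change m ≤ 4 at hd
    change eta j' + 1 ≤ m ∨ j' = 2 * m at hmem
    have h8 : j' ≤ 8 := by
      rcases hmem with h1 | h1
      · have := heta (m - 1) (by omega)
        omega
      · omega
    have h1 := exc3_four hw hj3 h8 hpow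
    have h2 := heta5 h1
    omega
  | _ => exact htop.elim

end Cfsg.Agent.R2.Spec.SD
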