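import Cfsg.Agent.R2.Spec.SD.IsoT

/-!
# Small ranks (helper10): both classes isolated in `S`

`Duel.iso_sd` : `SDL t`, `256 ≤ q`, both classes isolated in `S` : exotic.
-/

set_option autoImplicit false

namespace Cfsg.Agent.R2.Spec.SD

open Cfsg Cfsg.Agent.H426.LieFam Cfsg.Agent.R2.Spec Cfsg.Agent.R2.Spec.P1 Cfsg.Agent.R2.Spec.F1 Cfsg.Agent.R2.Spec.E

universe u

theorem SDL.rk4 {t : Fam} (h : SDL t) : 4 ≤ rk t := by
  rcases h with rfl | rfl | rfl | rfl | rfl | rfl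
  · change 4 ≤ 5; norm_num
  · change 4 ≤ 5; norm_num
  · change 4 ≤ 6; norm_num
  · change 4 ≤ 5; norm_num
  · change 4 ≤ 5; norm_num
  · change 4 ≤ 6; norm_num

/-- the bound of the cofactor -/
theorem RR_le {c q : ℕ} (hq : 3 ≤ q) : (c = 0 ∨ c = 1 ∨ c = 2 ∨ c = 5 → RR c q ≤ 5 * (q + 1)) := by
  have g0 : Nat.gcd 5 (q - 1) ≤ 5 := Nat.le_of_dvd (by norm_num) (Nat.gcd_dvd_left _ _)
  have g1 : Nat.gcd 5 (q + 1) ≤ 5 := Nat.le_of_dvd (by norm_num) (Nat.gcd_dvd_left _ _)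
  rintro (rfl | rfl | rfl | rfl)
  · change (q - 1) * Nat.gcd 5 (q - 1) ≤ _
    have := Nat.mul_le_mul (show q - 1 ≤ q + 1 by omega) g0
    omega
  · change (q + 1) * Nat.gcd 5 (q + 1) ≤ _
    have := Nat.mul_le_mul (show q + 1 ≤ q + 1 by omega) g1
    omega
  · change 2 * (q + 1) ≤ _
    omega
  · change 2 * (q - 1) ≤ _
    omega

/-- the cofactor of `S` in an isolated number -/
theorem cof_eq {M H P K g F R : ℕ} (hM : M = H * P) (hF : M * g = F) (hFK : F = K * R) (hK : K ∣ P) (hK0 : 0 < K)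
    (hP : 1 ≤ P) : ∃ y : ℕ, 1 ≤ y ∧ P = K * y ∧ g * H * y = R := by
  obtain ⟨y, rfl⟩ := hK
  have hy : 1 ≤ y := by
    rcases Nat.eq_zero_or_pos y with h | h
    · rw [h, mul_zero] at hP
      omega
    · exact h
  refine ⟨y, hy, rfl, ?_⟩
  refine Nat.eq_of_mul_eq_mul_left hK0 ?_
  rw [← hFK, ← hF, hM]
  ring

/-- the contradiction, dimension five -/
theorem fin_five {t' : Fam} {q u i' j' k d : ℕ} {b' c' P : ℤ} (hq : 256 ≤ q) (hu : 2 ≤ u) (hr : RkS t')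
    (hb : 1 ≤ b' ∧ b' ≤ u + 1) (hP : (P : ℤ) = ttor t' u i')
    (hk : (k = 1 ∧ b' = 1 ∧ |c'| ≤ 2) ∨
        (k = 0 ∧ 1 ≤ d ∧ d ≤ u + 1 ∧ (d : ℤ) * |c'| ≤ u + 1 ∧ (∃ m, (t' = .psl m ∨ t' = .psu m) ∧ d ≤ m) ∧
          u ^ lowE t' * (u - 1) ≤ d * ttor t' u i' ∧ u ^ lowE t' * (u - 1) ≤ d * ttor t' u j') ∨
        (2 ≤ k ∧ 1 ≤ d ∧ d ≤ 4 ∧ (d : ℤ) * |c'| ≤ 2 * (u + 1) ^ 2 ∧ (∃ m, t' = .oplus m ∨ t' = .ominus m) ∧
          u ^ lowE t' * (u - 1) ≤ d * ttor t' u i' ∧ u ^ lowE t' * (u - 1) ≤ d * ttor t' u j'))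
    (h1 : 2 * P ≤ b' * ((q : ℤ) + 1) ^ 2 + 5 * ((q : ℤ) + 1) ^ 2 * |c'|)
    (h2 : (q : ℤ) ^ 3 * (q - 1) ≤ 5 * b' * ((q : ℤ) + 1) ^ 2 + 13 * ((q : ℤ) + 1) * |c'|) : False := by
  have hq' : (256 : ℤ) ≤ q := by exact_mod_cast hq
  have hu' : (2 : ℤ) ≤ u := by exact_mod_cast hu
  have hc0 := abs_nonneg c'
  have low : ∀ e : ℕ, e ≤ lowE t' → u ^ lowE t' * (u - 1) ≤ d * ttor t' u i' →
      (u : ℤ) ^ e * (u - 1) ≤ d * P := by
    intro e he hl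
    have e1 : u ^ e * (u - 1) ≤ d * ttor t' u i' :=
      (Nat.mul_le_mul_right _ (Nat.pow_le_pow_right (by omega) he)).trans hl
    have e2 : ((u ^ e * (u - 1) : ℕ) : ℤ) = (u : ℤ) ^ e * (u - 1) := by
      push_cast [Nat.cast_sub (show 1 ≤ u by omega)]
      ring
    rw [← e2, hP]
    exact_mod_cast e1
  rcases hk with ⟨-, hb1, hC⟩ | ⟨-, hd1, hdu, hC, ⟨m, hm, hdm⟩, hl, -⟩ | ⟨-, hd1, hd4, hC, ⟨m, hm⟩, hl, -⟩
  · exact five_C hq' hb1 hC h2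
  · have hr4 : 4 ≤ m := by
      rcases hr with h | h | h
      · rcases hm with rfl | rfl <;> exact h
      · rcases hm with h' | h' <;> rw [h'] at h <;> cases h
      · rcases hm with h' | h' <;> rw [h'] at h <;> cases h
    have hlE : lowE t' = m - 2 := by rcases hm with rfl | rfl <;> rfl
    refine five_A hq' hu' hb.2 hc0 hC (by exact_mod_cast hd1) (by exact_mod_cast hdu) ?_ h1 h2
    by_cases h5 : m = 4
    · left
      exact ⟨by exact_mod_cast (show d ≤ 4 by omega), low 2 (by omega) hl⟩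
    · right
      exact low 3 (by omega) hl
  · have hr4 : 4 ≤ m := by
      rcases hr with h | h | h
      · rcases hm with rfl | rfl <;> exact h
      · rcases hm with h' | h' <;> rw [h'] at h <;> cases h
      · rcases hm with h' | h' <;> rw [h'] at h <;> cases h
    have hlE : lowE t' = m - 1 := by rcases hm with rfl | rfl <;> rfl
    exact five_D hq' hu' hb.2 hc0 hC (by exact_mod_cast hd1) (by exact_mod_cast hd4) (low 3 (by omega) hl) h1 h2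

/-- the contradiction, dimension six -/
theorem fin_six {t' : Fam} {q u i' j' k d : ℕ} {b' b2 c' R : ℤ} (hq : 256 ≤ q) (hu : 2 ≤ u) (hr : RkFive t')
    (hb : 1 ≤ b' ∧ b' ≤ u + 1) (hb2 : 1 ≤ b2 ∧ b2 ≤ u + 1)
    (hR : (R : ℤ) = ttor t' u i' ∨ (R : ℤ) = ttor t' u j')
    (hk : (k = 1 ∧ b' = 1 ∧ |c'| ≤ 2) ∨
        (k = 0 ∧ 1 ≤ d ∧ d ≤ u + 1 ∧ (d : ℤ) * |c'| ≤ u + 1 ∧ (∃ m, (t' = .psl m ∨ t' = .psu m) ∧ d ≤ m) ∧
          u ^ lowE t' * (u - 1) ≤ d * ttor t' u i' ∧ u ^ lowE t' * (u - 1) ≤ d * ttor t' u j') ∨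
        (2 ≤ k ∧ 1 ≤ d ∧ d ≤ 4 ∧ (d : ℤ) * |c'| ≤ 2 * (u + 1) ^ 2 ∧ (∃ m, t' = .oplus m ∨ t' = .ominus m) ∧
          u ^ lowE t' * (u - 1) ≤ d * ttor t' u i' ∧ u ^ lowE t' * (u - 1) ≤ d * ttor t' u j'))
    (h1 : 2 * R ≤ b2 * ((q : ℤ) + 1) ^ 2 + ((q : ℤ) + 1) ^ 3 * |c'|)
    (h2 : (q : ℤ) ^ 3 * (q - 1) ≤ 5 * ((q : ℤ) + 1) ^ 2 * (b' + |c'|)) : False := by
  have hq' : (256 : ℤ) ≤ q := by exact_mod_cast hq
  have hu' : (2 : ℤ) ≤ u := by exact_mod_cast hu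
  have hc0 := abs_nonneg c'
  have low : 5 ≤ lowE t' → u ^ lowE t' * (u - 1) ≤ d * ttor t' u i' → u ^ lowE t' * (u - 1) ≤ d * ttor t' u j' →
      (u : ℤ) ^ 5 * (u - 1) ≤ d * R := by
    intro he hl hl'
    have e1 : u ^ 5 * (u - 1) ≤ u ^ lowE t' * (u - 1) := Nat.mul_le_mul_right _ (Nat.pow_le_pow_right (by omega) he)
    have e2 : ((u ^ 5 * (u - 1) : ℕ) : ℤ) = (u : ℤ) ^ 5 * (u - 1) := by
      push_cast [Nat.cast_sub (show 1 ≤ u by omega)]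
      ring
    rw [← e2]
    rcases hR with hR | hR
    · rw [hR]
      exact_mod_cast e1.trans hl
    · rw [hR]
      exact_mod_cast e1.trans hl'
  rcases hk with ⟨-, hb1, hC⟩ | ⟨-, hd1, hdu, hC, ⟨m, hm, hdm⟩, hl, hl'⟩ | ⟨-, hd1, hd4, hC, ⟨m, hm⟩, hl, hl'⟩
  · exact six_C hq' hb1 hC h2
  · have hlE : 5 ≤ lowE t' := by
      rcases hm with rfl | rfl
      · have : 9 ≤ m := hr
        change 5 ≤ m - 2
        omega
      · have : 9 ≤ m := hr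
        change 5 ≤ m - 2
        omega
    refine six_DA hq' hu' hb.2 hb2.2 hc0 (hC.trans (by nlinarith)) (by exact_mod_cast hd1) ?_ (low hlE hl hl') h1 h2
    have : (d : ℤ) ≤ u + 1 := by exact_mod_cast hdu
    omega
  · have hlE : 5 ≤ lowE t' := by
      rcases hm with rfl | rfl
      · have : 7 ≤ m := hr
        change 5 ≤ m - 1
        omega
      · have : 6 ≤ m := hr
        change 5 ≤ m - 1
        omega
    refine six_DA hq' hu' hb.2 hb2.2 hc0 hC (by exact_mod_cast hd1) ?_ (low hlE hl hl') h1 h2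
    have : (d : ℤ) ≤ 4 := by exact_mod_cast hd4
    omega

variable {t t' : Fam} {p f i j v f' i' j' w H : ℕ} {S : Type u} [Group S]

/-- **Both classes isolated.** -/
theorem Duel.iso_sd (h : Duel t p f i j t' v f' i' j' w H S) (hsd : SDL t) (hr' : RkS t')
    (h5 : (t = .psp 5 ∨ t = .oodd 5 ∨ t = .ominus 6) → RkFive t') (hq : 256 ≤ p ^ f)
    (ht : top t' j') : ∃ H' : ℕ, ttor t (p ^ f) j = H' * ttor t' (v ^ f') j' ∧
      Exo t (p ^ f) t' (v ^ f') i j i' j' H H' := by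
  obtain ⟨hq3, hq2⟩ := f_q h.p_prime h.p_ne h.f_pos
  obtain ⟨c1, c2, g, a, b, c, hL, hk, hrow, hx, hx6, hx5⟩ := lkx hsd hq3 hq2 h.pair
  have hu : 2 ≤ v ^ f' := h.v_prime.two_le.trans (Nat.le_self_pow (by have := h.f'_pos; omega) v)
  obtain ⟨k, d, s', a', b', c', hS, hkk⟩ := snumX hu hr' h.topi' ht (na_ne h.na')
  obtain ⟨H', hN, hcop'⟩ := h.copH' ht
  obtain ⟨ha1, ha2, hb1, hb2, hc, hM1, hN1⟩ := hL.sz hq3
  obtain ⟨ha1', ha2', hb1', hb2', hab', hba', hd0, -, hk1, hc', hk3, hc0'⟩ := hS.rel.sz hu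
  have hM := h.eqM
  have hH1 : 1 ≤ H := Nat.one_le_iff_ne_zero.2 (by rintro rfl; rw [zero_mul] at hM; omega)
  have hP1 : 1 ≤ ttor t' (v ^ f') i' := Nat.one_le_iff_ne_zero.2 (by
    intro h0; rw [h0, mul_zero] at hM; omega)
  have hH1' : 1 ≤ H' := Nat.one_le_iff_ne_zero.2 (by rintro rfl; rw [zero_mul] at hN; omega)
  have hQ1 : 1 ≤ ttor t' (v ^ f') j' := Nat.one_le_iff_ne_zero.2 (by
    intro h0; rw [h0, mul_zero] at hN; omega)
  refine ⟨H', hN, ?_⟩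
  by_contra hexo
  have hnz : ¬ (|a' * c - a * H * c'| < ttor t' (v ^ f') j' ∨ |b' * c - b * H' * c'| < ttor t' (v ^ f') i') := by
    intro hs
    obtain ⟨-, e2, e3⟩ := elim (M := (ttor t (p ^ f) i : ℤ)) (N := (ttor t (p ^ f) j : ℤ))
      (P := (ttor t' (v ^ f') i' : ℤ)) (Q := (ttor t' (v ^ f') j' : ℤ)) (H1 := (H : ℤ)) (H2 := (H' : ℤ))
      hL.rel hS.eq (by exact_mod_cast hM) (by exact_mod_cast hN) (by omega) (by omega) hs
    refine hexo (iso_alg hq3 hq2 hu ?_ hr'.two hL hk hS hM hN hH1 hH1' ?_ (by omega) (by omega)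
      (fun hII => sum_II hq3 hq2 hsd.rk4 h.pair hII) e2 e3)
    · exact Nat.Coprime.pow _ _ ((Nat.coprime_primes h.p_prime h.v_prime).2 h.vp.symm)
    · intro he
      apply h.vM
      rw [hM, he]
      exact Dvd.dvd.mul_right (dvd_pow_self v (by have := h.f'_pos; omega)) _
  rw [not_or, not_lt, not_lt] at hnz
  have hrel := hL.rel
  have heq := hS.eq
  have k1 : (ttor t' (v ^ f') j' : ℤ) * (a * b' * H - a' * b * H') = a' * c - a * H * c' := by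
    rw [show ((ttor t (p ^ f) i : ℕ) : ℤ) = H * ttor t' (v ^ f') i' by exact_mod_cast hM,
      show ((ttor t (p ^ f) j : ℕ) : ℤ) = H' * ttor t' (v ^ f') j' by exact_mod_cast hN] at hrel
    linear_combination a' * hrel - a * H * heq
  have k2 : (ttor t' (v ^ f') i' : ℤ) * (a * b' * H - a' * b * H') = b' * c - b * H' * c' := by
    rw [show ((ttor t (p ^ f) i : ℕ) : ℤ) = H * ttor t' (v ^ f') i' by exact_mod_cast hM,
      show ((ttor t (p ^ f) j : ℕ) : ℤ) = H' * ttor t' (v ^ f') j' by exact_mod_cast hN] at hrel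
    linear_combination b' * hrel - b * H' * heq
  have hW : ((ttor t' (v ^ f') i' : ℕ) : ℤ) ∣ b' * c - b * H' * c' := Dvd.intro _ k2
  have hW0 : b' * c - b * H' * c' ≠ 0 := by
    intro h0
    have := hnz.2
    rw [h0, abs_zero] at this
    omega
  -- the base
  have hbase : Base t p f i j t' v f' i' H :=
    ⟨h.p_prime, h.p_ne, h.f_pos, hsd, h.pair, h.v_prime, h.vp, h.f'_pos, hr', h5, h.topi', h.eqM, h.copH⟩
  have hKP := hbase.K_dvd hrow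
  have hKQ : KF c2 (p ^ f) ∣ ttor t' (v ^ f') j' := by
    have e1 := hrow.K_dvd_j hq3 hq2
    rw [hN] at e1
    refine Nat.Coprime.dvd_of_dvd_mul_left ?_ e1
    refine Nat.coprime_of_dvd fun r hrp hd => ?_
    exact hcop' r hrp (hrow.cls_eq' hsd hq3 hq2 hrp hd)
  have hKpos : ∀ {c : ℕ}, c ≤ 5 → 0 < KF c (p ^ f) := by
    intro c hc
    rcases Nat.eq_zero_or_pos (KF c (p ^ f)) with h0 | h0
    · exfalso
      have := (KF_low hc hq3 hq2).1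
      rw [h0] at this
      have hq' : (256 : ℤ) ≤ ((p ^ f : ℕ) : ℤ) := by exact_mod_cast hq
      push_cast at this hq'
      have h9 : (0 : ℤ) < ((p : ℤ) ^ f) ^ 3 * ((p : ℤ) ^ f - 1) := by
        have : (0 : ℤ) < (p : ℤ) ^ f - 1 := by omega
        have : (0 : ℤ) < (p : ℤ) ^ f := by omega
        positivity
      omega
    · exact h0
  obtain ⟨y, hy1, hyP, hyR⟩ := cof_eq hM hrow.eqi (FF_eq hrow.hc hq3 hq2) hKP (hKpos hrow.hc) hP1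
  obtain ⟨y', hy1', hyQ, hyR'⟩ := cof_eq hN hrow.eqj (FF_eq hrow.hc' hq3 hq2) hKQ (hKpos hrow.hc') hQ1
  have lowK := KF_low hrow.hc hq3 hq2
  obtain ⟨q, hqe⟩ : ∃ q, q = p ^ f := ⟨_, rfl⟩
  obtain ⟨u', hue⟩ : ∃ u', u' = v ^ f' := ⟨_, rfl⟩
  rw [← hqe] at lowK hyR hyR' hq hq3 hq2 hx hKP
  rw [← hue] at hW hP1 hQ1 hkk hnz hu ha2' hb2' hKP
  have hqz : (256 : ℤ) ≤ q := by exact_mod_cast hq
  have hKPz : ((KF c1 q : ℕ) : ℤ) ∣ ((ttor t' u' i' : ℕ) : ℤ) := Int.natCast_dvd_natCast.2 hKP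
  have hyRz' : (g : ℤ) * H' * y' = ((RR c2 q : ℕ) : ℤ) := by exact_mod_cast hyR'
  have hyRz : (g : ℤ) * H * y = ((RR c1 q : ℕ) : ℤ) := by exact_mod_cast hyR
  have hgz : (g : ℤ) = 2 ∨ (g : ℤ) = 4 := by
    rcases hrow.hg with h | h
    · left; exact_mod_cast h
    · right; exact_mod_cast h
  have hP0z : (0 : ℤ) < ((ttor t' u' i' : ℕ) : ℤ) := by exact_mod_cast hP1
  have hHz' : (1 : ℤ) ≤ (H' : ℤ) := by exact_mod_cast hH1'
  have hHz : (1 : ℤ) ≤ (H : ℤ) := by exact_mod_cast hH1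
  have hyz' : (1 : ℤ) ≤ (y' : ℤ) := by exact_mod_cast hy1'
  have hyz : (1 : ℤ) ≤ (y : ℤ) := by exact_mod_cast hy1
  have hq1 : ((q - 1 : ℕ) : ℤ) = (q : ℤ) + -1 := by push_cast [Nat.cast_sub (show 1 ≤ q by omega)]; ring
  have hkk' : (k = 1 ∧ b' = 1 ∧ |c'| ≤ 2) ∨
        (k = 0 ∧ 1 ≤ d ∧ d ≤ u' + 1 ∧ (d : ℤ) * |c'| ≤ u' + 1 ∧ (∃ m, (t' = .psl m ∨ t' = .psu m) ∧ d ≤ m) ∧
          u' ^ lowE t' * (u' - 1) ≤ d * ttor t' u' i' ∧ u' ^ lowE t' * (u' - 1) ≤ d * ttor t' u' j') ∨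
        (2 ≤ k ∧ 1 ≤ d ∧ d ≤ 4 ∧ (d : ℤ) * |c'| ≤ 2 * (u' + 1) ^ 2 ∧ (∃ m, t' = .oplus m ∨ t' = .ominus m) ∧
          u' ^ lowE t' * (u' - 1) ≤ d * ttor t' u' i' ∧ u' ^ lowE t' * (u' - 1) ≤ d * ttor t' u' j') := by
    rcases hkk with ⟨e1, -, e2, e3⟩ | e | e
    · exact Or.inl ⟨e1, e2, e3⟩
    · exact Or.inr (Or.inl e)
    · exact Or.inr (Or.inr e)
  rcases hx with ⟨-, rfl, hc1, hg2, hcc⟩ | ⟨s, hcs, hx⟩
  · -- type II
    have hR2 : ((RR c2 q : ℕ) : ℤ) ≤ 5 * ((q : ℤ) + 1) := by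
      have := RR_le (c := c2) (q := q) hq3 (by omega)
      exact_mod_cast this
    rw [hg2] at hyRz'
    obtain ⟨I1, I2⟩ := ineq_five' (K := ((KF c1 q : ℕ) : ℤ)) hqz hc1 hKPz hb1' hHz' hyz' hW hW0 hP0z hyRz' hR2 lowK.1
    exact fin_five hq hu hr' ⟨hb1', hb2'⟩ rfl hkk' I1 I2
  · have hsd2 : s = 1 ∨ s = -1 := by rcases hx with ⟨h, -⟩ | ⟨h, -⟩ <;> simp [h]
    have cop := KF_cop (c := c1) hrow.hc hq3 hq2 hsd2
    have five : ((b = q ∧ ((RR c2 q : ℕ) : ℤ) = ((q : ℤ) + s) * 2 ∧ (q : ℤ) ^ 3 * (q - 1) ≤ 5 * (KF c1 q : ℕ)) ∨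
      (b = q + s ∧ ((RR c2 q : ℕ) : ℤ) ≤ 5 * ((q : ℤ) + 1) ∧ (q : ℤ) ^ 3 * (q - 1) ≤ 2 * (KF c1 q : ℕ))) → False := by
      intro hcase
      obtain ⟨I1, I2⟩ := ineq_five (a := a) (K := ((KF c1 q : ℕ) : ℤ)) hqz hsd2 hgz hcs hKPz hb1' hHz' hyz' cop hW hW0 hP0z hyRz'
        hcase
      exact fin_five hq hu hr' ⟨hb1', hb2'⟩ rfl hkk' I1 I2
    rcases hx with ⟨rfl, ⟨rfl, rfl, -, rfl⟩ | ⟨rfl, rfl, -, rfl⟩⟩ | ⟨rfl, ⟨rfl, rfl, -, rfl⟩ | ⟨rfl, rfl, -, rfl⟩ |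
      ⟨hg2, rfl, rfl, hae, rfl⟩ | ⟨hg2, rfl, rfl, -, rfl⟩⟩
    · refine five (Or.inl ⟨rfl, ?_, lowK.1⟩)
      change ((2 * (q + 1) : ℕ) : ℤ) = _
      push_cast; ring
    · refine five (Or.inr ⟨rfl, ?_, lowK.2.1 (Or.inl rfl)⟩)
      have := RR_le (c := 0) (q := q) hq3 (by omega)
      exact_mod_cast this
    · refine five (Or.inl ⟨rfl, ?_, lowK.1⟩)
      change ((2 * (q - 1) : ℕ) : ℤ) = _
      rw [Nat.cast_mul, hq1]
      push_cast; ring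
    · refine five (Or.inr ⟨rfl, ?_, lowK.2.1 (Or.inr rfl)⟩)
      have := RR_le (c := 1) (q := q) hq3 (by omega)
      exact_mod_cast this
    · -- ominus 6, first
      have ht6 : t = .ominus 6 := by
        by_contra hne
        exact (hx5 hne).1 rfl
      rw [hg2] at hyRz hyRz' hcs
      have hg5 : ((Nat.gcd 5 (q + 1) : ℕ) : ℤ) ≤ 5 := by
        exact_mod_cast Nat.le_of_dvd (by norm_num) (Nat.gcd_dvd_left 5 (q + 1))
      have hR4 : ((RR 4 q : ℕ) : ℤ) = ((q : ℤ) + -1) * (((q : ℤ) + 1) * ((Nat.gcd 5 (q + 1) : ℕ) : ℤ)) := by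
        change (((q ^ 2 - 1) * Nat.gcd 5 (q + 1) : ℕ) : ℤ) = _
        rw [Nat.cast_mul, Nat.cast_sub (Nat.one_le_pow 2 q (by omega))]
        push_cast; ring
      have hR3 : ((RR 3 q : ℕ) : ℤ) = (q : ℤ) ^ 2 + 1 := by
        change ((q ^ 2 + 1 : ℕ) : ℤ) = _
        push_cast; ring
      have I2 := ineq_six (K := ((KF 3 q : ℕ) : ℤ)) (g5 := ((Nat.gcd 5 (q + 1) : ℕ) : ℤ)) hqz hcs hKPz hb1' hHz' hyz' cop
        hW hW0 (by positivity) hg5 (Or.inl ⟨rfl, by rw [← hR4]; exact hyRz', lowK.2.2 rfl⟩)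
      have hQle : ((ttor t' u' j' : ℕ) : ℤ) ≤ a' * |c| + a * H * |c'| := by
        refine hnz.1.trans ((abs_sub _ _).trans ?_)
        rw [abs_mul, abs_mul, abs_mul, abs_of_pos (show 0 < a' by omega), abs_of_pos (show 0 < a by omega),
          Nat.abs_cast]
      have I1 := ineq_six' hqz hcs ha1' hHz hyz hae hQle (by rw [← hR3]; exact hyRz)
      exact fin_six hq hu (h5 (Or.inr (Or.inr ht6))) ⟨hb1', hb2'⟩ ⟨ha1', ha2'⟩ (Or.inr rfl) hkk' I1 I2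
    · -- ominus 6, second
      have ht6 : t = .ominus 6 := by
        by_contra hne
        exact (hx5 hne).2 rfl
      rw [hg2] at hyRz hyRz' hcs
      have hR3 : ((RR 3 q : ℕ) : ℤ) = (q : ℤ) ^ 2 + 1 := by
        change ((q ^ 2 + 1 : ℕ) : ℤ) = _
        push_cast; ring
      have I2 := ineq_six (K := ((KF 4 q : ℕ) : ℤ)) (g5 := 1) hqz hcs hKPz hb1' hHz' hyz' cop
        hW hW0 (by norm_num) (by norm_num) (Or.inr ⟨rfl, by rw [← hR3]; exact hyRz', lowK.1⟩)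
      have hPle : ((ttor t' u' i' : ℕ) : ℤ) ≤ b' * |c| + ((q : ℤ) + -1) * H' * |c'| := by
        refine hnz.2.trans ((abs_sub _ _).trans ?_)
        rw [abs_mul, abs_mul, abs_mul, abs_of_pos (show 0 < b' by omega),
          abs_of_pos (show (0 : ℤ) < (q : ℤ) + -1 by omega), Nat.abs_cast]
      have I1 := ineq_six' hqz hcs hb1' hHz' hyz' rfl hPle (by rw [← hR3]; exact hyRz')
      exact fin_six hq hu (h5 (Or.inr (Or.inr ht6))) ⟨hb1', hb2'⟩ ⟨hb1', hb2'⟩ (Or.inl rfl) hkk' I1 I2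

end Cfsg.Agent.R2.Spec.SD
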