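import Cfsg.Agent.R2.Spec.SD.IrrN
import Cfsg.Agent.R2.Spec.SD.IsoSD
import Cfsg.Agent.R2.Spec.P1.TopTwo

/-!
# Small ranks (helper10): the irregular alternative
-/

set_option autoImplicit false

namespace Cfsg.Agent.R2.Spec.SD

open Cfsg Cfsg.Agent.H426.LieFam Cfsg.Agent.R2.Spec Cfsg.Agent.R2.Spec.P1 Cfsg.Agent.R2.Spec.F1 Cfsg.Agent.R2.Spec.E
open Cfsg.Agent.R2.Spec.P1.Eig (AN AN_one AN_neg)
open Cfsg.Agent.R2.Spec.X5 (IsA torL_one)
open Cfsg.Agent.R2.Spec.NA (AA_one_dvd AA_pos AA_true AA_false_even AA_false_odd)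
open Cfsg.Agent.H403.NumTop

universe u

theorem num2 {q : ℕ} (hq : 256 ≤ q) : 64000 * (q + 1) ^ 2 ≤ q ^ 3 * (q - 1) := by
  obtain ⟨t, rfl⟩ : ∃ t, q = t + 256 := ⟨q - 256, by omega⟩
  rw [show t + 256 - 1 = t + 255 by omega]
  have h : (t + 256) ^ 3 * (t + 255) = 64000 * (t + 256 + 1) ^ 2 +
      (t ^ 4 + 1023 * t ^ 3 + 328448 * t ^ 2 + 34016256 * t + 51054080) := by ring
  omega

theorem num3 {q : ℕ} (hq : 256 ≤ q) : 250 * (q + 1) ^ 3 ≤ q ^ 3 * (q - 1) := by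
  obtain ⟨t, rfl⟩ : ∃ t, q = t + 256 := ⟨q - 256, by omega⟩
  rw [show t + 256 - 1 = t + 255 by omega]
  have h : (t + 256) ^ 3 * (t + 255) = 250 * (t + 256 + 1) ^ 3 +
      (t ^ 4 + 773 * t ^ 3 + 199698 * t ^ 2 + 17375506 * t + 34541830) := by ring
  omega

/-- the final inequality, the families `B`, `C`, `D` -/
theorem fin_N {q u k e : ℕ} (hq : 256 ≤ q) (hu : 10 ≤ u) (h1 : u ^ k + 1 ≤ 5 * (q + 1))
    (h2 : q ^ 3 * (q - 1) ≤ 6 * u ^ e) (hke : e ≤ 2 * k ∨ (k = 2 ∧ e = 5)) : False := by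
  rcases hke with h | ⟨rfl, rfl⟩
  · have h3 : u ^ e ≤ (u ^ k) ^ 2 := by
      rw [← pow_mul]
      exact Nat.pow_le_pow_right (by omega) (by omega)
    have h4 : (u ^ k) ^ 2 ≤ (5 * (q + 1)) ^ 2 := Nat.pow_le_pow_left (by omega) 2
    have h5 := num2 hq
    have h6 : (5 * (q + 1)) ^ 2 = 25 * (q + 1) ^ 2 := by ring
    have h7 : 0 < (q + 1) ^ 2 := by positivity
    omega
  · have h3 : 10 * u ^ 5 ≤ (u ^ 2) ^ 3 := by
      have : (u ^ 2) ^ 3 = u * u ^ 5 := by ring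
      rw [this]
      exact Nat.mul_le_mul_right _ hu
    have h4 : (u ^ 2) ^ 3 ≤ (5 * (q + 1)) ^ 3 := Nat.pow_le_pow_left (by omega) 3
    have h5 := num3 hq
    have h6 : (5 * (q + 1)) ^ 3 = 125 * (q + 1) ^ 3 := by ring
    have h7 : 0 < (q + 1) ^ 3 := by positivity
    omega

theorem pow_ten {k : ℕ} (hk : 5 ≤ k) : 8 * k ^ 3 ≤ 10 ^ (2 * k - 7) := by
  induction k, hk using Nat.le_induction with
  | base => norm_num
  | succ k hk ih =>
    rw [show 2 * (k + 1) - 7 = 2 * k - 7 + 2 by omega, pow_add]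
    have h1 : (k + 1) ^ 3 ≤ (2 * k) ^ 3 := Nat.pow_le_pow_left (by omega) 3
    rw [mul_pow] at h1
    omega

/-- the final inequality, the linear and unitary families -/
theorem fin_A {q u k e W c n : ℕ} (hq : 256 ≤ q) (hu : 10 ≤ u) (hk2 : k % 2 = 1) (h0 : 10 * u ^ (k - 1) ≤ 11 * W)
    (h1 : W ≤ k * (5 * (q + 1) * c)) (h2 : q ^ 3 * (q - 1) ≤ 6 * u ^ e) (he : e = n - 1)
    (hc : (n = 4 ∧ k = 3 ∧ c ≤ 4) ∨ (n = 5 ∧ k = 3 ∧ c ≤ 5) ∨ (n = 7 ∧ k = 5 ∧ c ≤ 7) ∨ (n = 8 ∧ k = 5 ∧ c ≤ 8) ∨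
      (9 ≤ n ∧ c = 1 ∧ n ≤ k + 5)) : False := by
  have h5 := num2 hq
  have h5' := num3 hq
  have h7 : 0 < (q + 1) ^ 2 := by positivity
  have h7' : 0 < (q + 1) ^ 3 := by positivity
  rcases hc with ⟨rfl, rfl, hc⟩ | ⟨rfl, rfl, hc⟩ | ⟨rfl, rfl, hc⟩ | ⟨rfl, rfl, hc⟩ | ⟨hn, rfl, hk⟩
  · have h3 := Nat.mul_le_mul_left (5 * (q + 1)) hc
    subst he
    have h4 : u ^ 2 ≤ 66 * (q + 1) := by
      rw [show 3 - 1 = 2 by rfl] at h0
      omega
    have h6 : 10 * u ^ 3 ≤ (u ^ 2) ^ 2 := by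
      have : (u ^ 2) ^ 2 = u * u ^ 3 := by ring
      rw [this]
      exact Nat.mul_le_mul_right _ hu
    have h8 : (u ^ 2) ^ 2 ≤ (66 * (q + 1)) ^ 2 := Nat.pow_le_pow_left h4 2
    rw [show (66 * (q + 1)) ^ 2 = 4356 * (q + 1) ^ 2 by ring] at h8
    rw [show 4 - 1 = 3 by rfl] at h2
    omega
  · have h3 := Nat.mul_le_mul_left (5 * (q + 1)) hc
    subst he
    have h4 : 2 * u ^ 2 ≤ 165 * (q + 1) := by
      rw [show 3 - 1 = 2 by rfl] at h0
      omega
    have h8 : (2 * u ^ 2) ^ 2 ≤ (165 * (q + 1)) ^ 2 := Nat.pow_le_pow_left h4 2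
    rw [show (165 * (q + 1)) ^ 2 = 27225 * (q + 1) ^ 2 by ring, show (2 * u ^ 2) ^ 2 = 4 * u ^ 4 by ring] at h8
    rw [show 5 - 1 = 4 by rfl] at h2
    omega
  · have h3 := Nat.mul_le_mul_left (5 * (q + 1)) hc
    subst he
    have h4 : 2 * u ^ 4 ≤ 385 * (q + 1) := by
      rw [show 5 - 1 = 4 by rfl] at h0
      omega
    have h6 : 100 * u ^ 6 ≤ (u ^ 4) ^ 2 := by
      have h9 : (u ^ 4) ^ 2 = u ^ 2 * u ^ 6 := by ring
      have h10 : 10 ^ 2 ≤ u ^ 2 := Nat.pow_le_pow_left hu 2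
      rw [h9]
      exact Nat.mul_le_mul_right _ h10
    have h8 : (2 * u ^ 4) ^ 2 ≤ (385 * (q + 1)) ^ 2 := Nat.pow_le_pow_left h4 2
    rw [show (385 * (q + 1)) ^ 2 = 148225 * (q + 1) ^ 2 by ring, show (2 * u ^ 4) ^ 2 = 4 * (u ^ 4) ^ 2 by ring] at h8
    rw [show 7 - 1 = 6 by rfl] at h2
    omega
  · have h3 := Nat.mul_le_mul_left (5 * (q + 1)) hc
    subst he
    have h4 : u ^ 4 ≤ 220 * (q + 1) := by
      rw [show 5 - 1 = 4 by rfl] at h0
      omega
    have h6 : 10 * u ^ 7 ≤ (u ^ 4) ^ 2 := by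
      have h9 : (u ^ 4) ^ 2 = u * u ^ 7 := by ring
      rw [h9]
      exact Nat.mul_le_mul_right _ hu
    have h8 : (u ^ 4) ^ 2 ≤ (220 * (q + 1)) ^ 2 := Nat.pow_le_pow_left h4 2
    rw [show (220 * (q + 1)) ^ 2 = 48400 * (q + 1) ^ 2 by ring] at h8
    rw [show 8 - 1 = 7 by rfl] at h2
    omega
  · have hk5 : 5 ≤ k := by omega
    have h4 : 2 * u ^ (k - 1) ≤ 11 * k * (q + 1) := by nlinarith
    have h8 : (2 * u ^ (k - 1)) ^ 3 ≤ (11 * k * (q + 1)) ^ 3 := Nat.pow_le_pow_left h4 3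
    have h9 : (2 * u ^ (k - 1)) ^ 3 = 8 * (u ^ (2 * k - 7) * u ^ (k + 4)) := by
      rw [← pow_add, mul_pow, ← pow_mul]
      congr 2
      omega
    have h10 : 8 * k ^ 3 ≤ u ^ (2 * k - 7) := (pow_ten hk5).trans (Nat.pow_le_pow_left hu _)
    have h11 : 8 * (8 * k ^ 3 * u ^ (k + 4)) ≤ (11 * k * (q + 1)) ^ 3 := by
      refine le_trans ?_ (h9 ▸ h8)
      exact Nat.mul_le_mul_left _ (Nat.mul_le_mul_right _ h10)
    have h12 : 64 * u ^ (k + 4) ≤ 1331 * (q + 1) ^ 3 := by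
      refine Nat.le_of_mul_le_mul_left (c := k ^ 3) ?_ (by positivity)
      calc k ^ 3 * (64 * u ^ (k + 4)) = 8 * (8 * k ^ 3 * u ^ (k + 4)) := by ring
        _ ≤ _ := h11
        _ = _ := by ring
    have h13 : u ^ e ≤ u ^ (k + 4) := Nat.pow_le_pow_right (by omega) (by omega)
    omega

/-- the final inequality, `n = 6` -/
theorem fin_six' {q u W : ℕ} (hq : 256 ≤ q) (h0 : 10 * u ^ 2 ≤ 11 * W) (h1 : 2 * W ≤ 15 * (q + 1))
    (h2 : q ^ 3 * (q - 1) ≤ 6 * u ^ 5) : False := by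
  have h4 : 4 * u ^ 2 ≤ 33 * (q + 1) := by omega
  have h5 : (4 * u ^ 2) ^ 5 ≤ (33 * (q + 1)) ^ 5 := Nat.pow_le_pow_left h4 5
  have h6 : (q ^ 3 * (q - 1)) ^ 2 ≤ (6 * u ^ 5) ^ 2 := Nat.pow_le_pow_left h2 2
  have h7 : 15 * q ≤ 16 * (q - 1) := by omega
  have h8 : 16 * (q + 1) ≤ 17 * q := by omega
  have h9 : (15 * q) ^ 2 ≤ (16 * (q - 1)) ^ 2 := Nat.pow_le_pow_left h7 2
  have h10 : (16 * (q + 1)) ^ 5 ≤ (17 * q) ^ 5 := Nat.pow_le_pow_left h8 5
  have h11 : 1024 * (q ^ 6 * (225 * q ^ 2)) * 4096 ≤ 36 * 33 ^ 5 * (17 * q) ^ 5 := by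
    calc 1024 * (q ^ 6 * (225 * q ^ 2)) * 4096 = 1024 * 4096 * q ^ 6 * (15 * q) ^ 2 := by ring
      _ ≤ 1024 * 4096 * q ^ 6 * (16 * (q - 1)) ^ 2 := Nat.mul_le_mul_left _ h9
      _ = 1024 * 16 ^ 5 * (q ^ 3 * (q - 1)) ^ 2 := by ring
      _ ≤ 1024 * 16 ^ 5 * (6 * u ^ 5) ^ 2 := Nat.mul_le_mul_left _ h6
      _ = 36 * 16 ^ 5 * (4 * u ^ 2) ^ 5 := by ring
      _ ≤ 36 * 16 ^ 5 * (33 * (q + 1)) ^ 5 := Nat.mul_le_mul_left _ h5
      _ = 36 * 33 ^ 5 * (16 * (q + 1)) ^ 5 := by ring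
      _ ≤ 36 * 33 ^ 5 * (17 * q) ^ 5 := Nat.mul_le_mul_left _ h10
  have h12 : (1024 * 225 * 4096) * q ^ 3 ≤ 36 * 33 ^ 5 * 17 ^ 5 := by
    refine Nat.le_of_mul_le_mul_left (c := q ^ 5) ?_ (by positivity)
    calc q ^ 5 * ((1024 * 225 * 4096) * q ^ 3) = 1024 * (q ^ 6 * (225 * q ^ 2)) * 4096 := by ring
      _ ≤ _ := h11
      _ = _ := by ring
  have h13 : 256 ^ 3 ≤ q ^ 3 := Nat.pow_le_pow_left hq 3
  norm_num at h12 h13
  omega

/-- a prime of class one or two divides `u ^ 2 - 1` -/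
theorem cls_low {t : Fam} {u r : ℕ} (hr : r.Prime) (hru : ¬ r ∣ u) (h : cls t u r ≤ 2) : r ∣ u ^ 2 - 1 := by
  have hf := Fact.mk hr
  have hu0 : ((u : ℕ) : ZMod r) ≠ 0 := by
    rw [Ne, ZMod.natCast_eq_zero_iff]
    exact hru
  have hu1 : 1 ≤ u := Nat.one_le_iff_ne_zero.2 (by rintro rfl; exact hru (dvd_zero r))
  obtain ⟨y, hy⟩ : ∃ y : ZMod r, y = ((sg t u : ℤ) : ZMod r) := ⟨_, rfl⟩
  have hy2 : y ^ 2 = ((u : ℕ) : ZMod r) ^ 2 := by
    rw [hy]
    cases t <;> simp [sg]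
  have hy0 : y ≠ 0 := by
    rintro rfl
    rw [zero_pow (by norm_num)] at hy2
    exact pow_ne_zero 2 hu0 hy2.symm
  have h1 : orderOf y ∣ r - 1 := orderOf_dvd_of_pow_eq_one (ZMod.pow_card_sub_one_eq_one hy0)
  have h2 : 0 < orderOf y := Nat.pos_of_dvd_of_pos h1 (by have := hr.two_le; omega)
  have h3 : orderOf y ≤ 2 := by rw [hy]; exact h
  have h4 : orderOf y ∣ 2 := by
    rcases (show orderOf y = 1 ∨ orderOf y = 2 by omega) with h | h <;> rw [h] <;> norm_num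
  have h5 := orderOf_dvd_iff_pow_eq_one.1 h4
  rw [hy2] at h5
  rw [← ZMod.natCast_eq_zero_iff, Nat.cast_sub (Nat.one_le_pow _ _ hu1)]
  push_cast
  rw [h5, sub_self]

/-- **The irregular alternative.** -/
structure Irr (t : Fam) (p f i j : ℕ) (t' : Fam) (v f' i' H : ℕ) (S : Type u) [Group S] : Prop where
  base : Base t p f i j t' v f' i' H
  is : Fam.Is v f' S t'
  low : ∀ r : ℕ, r.Prime → cls t (p ^ f) r = j → r ≠ v ∧ cls t' (v ^ f') r ≤ 2
  ord : ∀ r : ℕ, r.Prime → cls t (p ^ f) r = j → ∀ x : S, r ∣ orderOf x → orderOf x ∣ ttor t (p ^ f) j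

section

variable {t t' : Fam} {p f i j v f' i' H c c' g : ℕ}

/-- the primes of the primitive part of the second number -/
theorem RowD.prime' (hr : RowD t (p ^ f) i j c c' g) (hc : c' ≠ 3) (hq3 : 3 ≤ p ^ f) (hq2 : p ^ f % 2 = 1) {r : ℕ}
    (hrp : r.Prime) (hd : r ∣ KF c' (p ^ f)) : 11 ≤ r := by
  obtain ⟨h1, h2⟩ := ord_of_K hr.hc' hq3 hq2 hrp hd
  have hf := Fact.mk hrp
  have h3 : IF c' = 5 ∨ IF c' = 10 ∨ IF c' = 8 := by
    have := hr.hc'
    rcases (show c' = 0 ∨ c' = 1 ∨ c' = 2 ∨ c' = 4 ∨ c' = 5 by omega) with rfl | rfl | rfl | rfl | rfl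
    · exact Or.inl rfl
    · exact Or.inr (Or.inl rfl)
    · exact Or.inr (Or.inr rfl)
    · exact Or.inr (Or.inl rfl)
    · exact Or.inr (Or.inr rfl)
  have h4 : ((p ^ f : ℕ) : ZMod r) ≠ 0 := by
    intro h0
    rw [h0, orderOf_zero] at h1
    omega
  have h5 : IF c' ∣ r - 1 := by
    rw [← h1]
    exact orderOf_dvd_of_pow_eq_one (ZMod.pow_card_sub_one_eq_one h4)
  have h6 := hrp.two_le
  by_contra hcon
  have h7 : ∃ d, r - 1 = IF c' * d := h5
  rcases h3 with h3 | h3 | h3 <;> rw [h3] at h5 <;> interval_cases r <;> revert h5 hrp <;> norm_num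

theorem RR_even {c q : ℕ} (hq2 : q % 2 = 1) (hc : c = 0 ∨ c = 1 ∨ c = 2 ∨ c = 5) : 2 ∣ RR c q := by
  rcases hc with rfl | rfl | rfl | rfl
  · exact Dvd.dvd.mul_right (show 2 ∣ q - 1 by omega) _
  · exact Dvd.dvd.mul_right (show 2 ∣ q + 1 by omega) _
  · exact Dvd.intro _ rfl
  · exact Dvd.intro _ rfl

theorem RR_pos {c q : ℕ} (hq : 3 ≤ q) (hc : c = 0 ∨ c = 1 ∨ c = 2 ∨ c = 5) : 0 < RR c q := by
  have g0 : 0 < Nat.gcd 5 (q - 1) := Nat.gcd_pos_of_pos_left _ (by norm_num)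
  have g1 : 0 < Nat.gcd 5 (q + 1) := Nat.gcd_pos_of_pos_left _ (by norm_num)
  rcases hc with rfl | rfl | rfl | rfl
  · exact Nat.mul_pos (by omega) g0
  · exact Nat.mul_pos (by omega) g1
  · change 0 < 2 * (q + 1)
    omega
  · change 0 < 2 * (q - 1)
    omega

/-- **No irregular alternative.** -/
theorem Irr.false {S : Type u} [Group S] [Finite S] (h : Irr t p f i j t' v f' i' H S) (ht6 : t ≠ .ominus 6) :
    False := by
  obtain ⟨hq3, hq2⟩ := h.base.q3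
  obtain ⟨c, c', g, hrow⟩ := row h.base.sd hq3 hq2 h.base.pair
  have hu2 := h.base.u2
  have hc4 : c' = 0 ∨ c' = 1 ∨ c' = 2 ∨ c' = 5 := by
    rcases hrow.typ with ⟨-, -, h | h⟩ | ⟨-, h | h⟩ | ⟨-, h | h⟩ | ⟨h, -⟩
    · omega
    · omega
    · omega
    · omega
    · omega
    · omega
    · exact absurd h ht6
  have hlowK := KF_low (c := c') hrow.hc' hq3 hq2
  have hlowI := KF_low (c := c) hrow.hc hq3 hq2
  -- the primes
  have hpr : ∀ r : ℕ, r.Prime → r ∣ KF c' (p ^ f) → 11 ≤ r ∧ r ∣ (v ^ f') ^ 2 - 1 ∧ cls t (p ^ f) r = j := by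
    intro r hr hd
    have hj := hrow.cls_eq' h.base.sd hq3 hq2 hr hd
    obtain ⟨h1, h2⟩ := h.low r hr hj
    refine ⟨hrow.prime' (by omega) hq3 hq2 hr hd, cls_low hr ?_ h2, hj⟩
    intro h3
    exact h1 ((Nat.prime_dvd_prime_iff_eq hr h.base.v_prime).1 (hr.dvd_of_dvd_pow h3))
  obtain ⟨K, hK⟩ : ∃ K, K = KF c' (p ^ f) := ⟨_, rfl⟩
  rw [← hK] at hpr hlowK
  have hqz : (3 : ℤ) ≤ ((p ^ f : ℕ) : ℤ) := by exact_mod_cast hq3
  have hK1 : K ≠ 1 := by
    intro h1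
    have h2 := hlowK.1
    rw [h1] at h2
    push_cast at h2 hqz
    have h3 : (3 : ℤ) ^ 3 * (3 - 1) ≤ ((p : ℤ) ^ f) ^ 3 * ((p : ℤ) ^ f - 1) := by gcongr
    omega
  obtain ⟨r, hrp, hrK⟩ := Nat.exists_prime_and_dvd hK1
  obtain ⟨hr11, hru, hrj⟩ := hpr r hrp hrK
  obtain ⟨u, hue⟩ : ∃ u, u = v ^ f' := ⟨_, rfl⟩
  rw [← hue] at hpr hru hu2
  have hru' : r ∣ (u + 1) * (u - 1) := by rwa [Gamma.sq_sub_one] at hru
  have hu10 : 10 ≤ u := by
    rcases hrp.dvd_mul.1 hru' with h1 | h1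
    · have := Nat.le_of_dvd (by omega) h1
      omega
    · have := Nat.le_of_dvd (by omega) h1
      omega
  obtain ⟨δ', hδ', hrδ⟩ : ∃ δ' : ℤ, (δ' = 1 ∨ δ' = -1) ∧ r ∣ AN δ' 1 u := by
    rcases hrp.dvd_mul.1 hru' with h1 | h1
    · exact ⟨-1, Or.inr rfl, by rw [AN_neg, pow_one]; exact h1⟩
    · exact ⟨1, Or.inl rfl, by rw [AN_one, pow_one]; exact h1⟩
  have hq : 256 ≤ p ^ f := by
    rcases h.base.small hrow with h1 | ⟨-, -, h1, -⟩
    · exact h1
    · rw [← hue] at h1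
      omega
  -- the sizes
  have hP0 : 1 ≤ ttor t' u i' := by
    rcases Nat.eq_zero_or_pos (ttor t' u i') with h0 | h0
    · exfalso
      have hM := h.base.eqM
      rw [← hue, h0, mul_zero] at hM
      have hF := hrow.eqi
      rw [hM, zero_mul, FF_eq hrow.hc hq3 hq2] at hF
      have h1 := hlowI.1
      rcases Nat.mul_eq_zero.1 hF.symm with h2 | h2
      · rw [h2] at h1
        push_cast at h1 hqz
        have h3 : (3 : ℤ) ^ 3 * (3 - 1) ≤ ((p : ℤ) ^ f) ^ 3 * ((p : ℤ) ^ f - 1) := by gcongr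
        omega
      · have hc5 : c = 0 ∨ c = 1 ∨ c = 2 ∨ c = 5 := by
          rcases hrow.typ with ⟨-, -, h | h⟩ | ⟨-, h | h⟩ | ⟨-, h | h⟩ | ⟨h, -⟩
          · omega
          · omega
          · omega
          · omega
          · omega
          · omega
          · exact absurd h ht6
        have := RR_pos (c := c) hq3 hc5
        omega
    · exact h0
  have hKP := h.base.K_dvd hrow
  rw [← hue] at hKP
  have hKle := Nat.le_of_dvd (by omega) hKP
  have htop := h.base.topi'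
  have hup := P_le hu10 h.base.rk3 htop
  obtain ⟨q, hqe⟩ : ∃ q, q = p ^ f := ⟨_, rfl⟩
  have hsize : q ^ 3 * (q - 1) ≤ 6 * u ^ upE t' := by
    have h1 : q ^ 3 * (q - 1) ≤ 5 * KF c (p ^ f) := by
      have := hlowI.1
      rw [← hqe] at this ⊢
      zify [show 1 ≤ q by omega]
      exact this
    omega
  rw [← hqe] at hq hq3 hq2
  have hR5 : RR c' q ≤ 5 * (q + 1) := RR_le hq3 hc4
  have hR2 : 2 ∣ RR c' q := RR_even hq2 hc4
  have hR0 : 0 < RR c' q := RR_pos hq3 hc4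
  -- the orders
  have hN : ∀ {W d : ℕ} (x : S), r ∣ orderOf x → W ∣ orderOf x * d → W ∣ Nat.gcd W K * (RR c' q * d) := by
    intro W d x h1 h2
    rw [Nat.dvd_gcd_mul_iff_dvd_mul, ← mul_assoc]
    have h3 := h.ord r hrp hrj x h1
    have h4 : ttor t (p ^ f) j * g = K * RR c' q := by
      rw [hrow.eqj, FF_eq hrow.hc' (by omega) (by rw [← hqe]; exact hq2), hK, hqe]
    rw [← h4]
    exact h2.trans (Nat.mul_dvd_mul_right (h3.mul_right g) d)
  have nl : ∀ {k O : ℕ} (x : S), 1 ≤ k → k % 2 = 0 → Odd O → O ∣ u ^ k + 1 → u ^ k + 1 ≤ 2 * O →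
      O ∣ orderOf x → r ∣ orderOf x → (upE t' ≤ 2 * k ∨ (k = 2 ∧ upE t' = 5)) → False := by
    intro k O x hk1 hk2 hO hOd hOle hOx hrx hke
    have h1 : Nat.Coprime O K := by
      refine Nat.coprime_of_dvd fun s hs hsO hsK => ?_
      obtain ⟨e1, e2, -⟩ := hpr s hs hsK
      have e3 := e2.trans (Gamma.sq_dvd_even (q := u) hk2)
      have e4 := hsO.trans hOd
      have e5 := Nat.dvd_sub e4 e3
      have e6 := Nat.one_le_pow k u (by omega)
      rw [show u ^ k + 1 - (u ^ k - 1) = 2 by omega] at e5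
      have := Nat.le_of_dvd (by norm_num) e5
      omega
    have h2 := hN (W := O) (d := 1) x hrx (by rw [mul_one]; exact hOx)
    rw [h1.gcd_eq_one, one_mul, mul_one] at h2
    have h3 : 2 * O ∣ RR c' q := Nat.Coprime.mul_dvd_of_dvd_of_dvd (Nat.coprime_two_left.2 hO) hR2 h2
    have h4 := Nat.le_of_dvd hR0 h3
    exact fin_N hq hu10 (by omega) hsize hke
  have nlin : ∀ {m : ℕ}, upE t' = m → ∀ {k : ℕ}, 1 ≤ k → k % 2 = 0 → (m ≤ 2 * k ∨ (k = 2 ∧ m = 5)) →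
      (((t' = .psp m ∨ t' = .oodd m) ∧ k + 1 ≤ m) ∨ ((t' = .oplus m ∨ t' = .ominus m) ∧ k + 2 ≤ m)) → False := by
    intro m hm k hk1 hk2 hmk ht
    obtain ⟨O, hO, hOd, hOle⟩ := oddpart hu2 hk2 hk1
    obtain ⟨x, h1, h2⟩ := torN (O := O) (r := r) h.is ht hk1 (δ := -1) (δ' := δ') (Or.inr rfl) hδ' hO
      (hrp.odd_of_ne_two (by omega)) (by rw [AN_neg, ← hue]; exact hOd) (by rw [← hue]; exact hrδ)
    exact nl x hk1 hk2 hO hOd hOle h1 h2 (by rw [hm]; exact hmk)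
  have lin : ∀ {n : ℕ} {e : Bool}, IsA t' n e → upE t' = n - 1 → 4 ≤ n →
      (n = 4 → ttor t' u 4 * (Nat.gcd 4 (AA e 1 u) * AA e 1 u) = u ^ 4 - 1 ∧ top t' 4) → Classical t' → False := by
    intro n e hA hup hn hfour hcl
    have hpos1 : 0 < AA e 1 u := AA_pos hu2 le_rfl
    -- the smooth part
    have hsm : ∀ {k : ℕ}, k % 2 = 1 → Nat.gcd (AA e k u / AA e 1 u) K ∣ k := by
      intro k hk
      refine lte_W hu2 hk ?_ (Nat.gcd_dvd_left _ _) fun s hs hd => (hpr s hs (hd.trans (Nat.gcd_dvd_right _ _))).2.1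
      rw [← Nat.not_even_iff_odd, even_iff_two_dvd]
      intro hd
      have := (hpr 2 Nat.prime_two (hd.trans (Nat.gcd_dvd_right _ _))).1
      omega
    have hbound : ∀ {k d : ℕ} (x : S), k % 2 = 1 → 1 ≤ d → r ∣ orderOf x → AA e k u / AA e 1 u ∣ orderOf x * d →
        AA e k u / AA e 1 u ≤ k * (5 * (q + 1) * d) := by
      intro k d x hk hd h1 h2
      have h3 := (hN x h1 h2).trans (Nat.mul_dvd_mul_right (hsm hk) _)
      have h4 := Nat.le_of_dvd (Nat.mul_pos (by omega) (Nat.mul_pos hR0 hd)) h3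
      exact h4.trans (Nat.mul_le_mul_left _ (Nat.mul_le_mul_right _ hR5))
    rcases Nat.eq_or_lt_of_le hn with h4 | h5
    · -- `n = 4`
      subst h4
      obtain ⟨hT, htop4⟩ := hfour rfl
      by_cases h1 : r ∣ AA e 1 u
      · obtain ⟨x, c, hx, hc, -⟩ := torL_one h.is hA (by norm_num) (k := 3) (by norm_num) (by norm_num)
        rw [← hue] at hx hc
        have hc4 : c ∣ 4 := hc.trans (Nat.gcd_dvd_left _ _)
        have hcle := Nat.le_of_dvd (by norm_num) hc4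
        have hcpos := Nat.pos_of_dvd_of_pos hc4 (by norm_num)
        have hrc : ¬ r ∣ c := fun hd => by
          have := Nat.le_of_dvd hcpos hd
          omega
        have h2 : r ∣ orderOf x := dvd_of_lcm (A := 0) hrp hx (h1.trans (AA_one_dvd (by omega))) hrc
        have h3 := hbound (k := 3) (d := c) x (by norm_num) hcpos h2
          (by rw [hx]; exact Nat.div_dvd_of_dvd (AA_one_dvd (by omega)))
        exact fin_A (n := 4) (e := upE t') hq hu10 (k := 3) (by norm_num) (W_low hu10 (by norm_num)) h3 hsize hup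
          (Or.inl ⟨rfl, rfl, hcle⟩)
      · obtain ⟨x, hx⟩ := (top_facts_all hcl h.base.v_prime h.is).elt 4 htop4
        rw [← hue] at hx
        have hsq : u ^ 4 - 1 = (u ^ 2 - 1) * (u ^ 2 + 1) := by
          have h2 : 1 ≤ u ^ 2 := Nat.one_le_pow _ _ (by omega)
          have h3 : 1 ≤ u ^ 4 := Nat.one_le_pow _ _ (by omega)
          zify [h2, h3]
          ring
        have hg4 : Nat.gcd 4 (AA e 1 u) ∣ 4 := Nat.gcd_dvd_left _ _
        have hr4 : ¬ r ∣ Nat.gcd 4 (AA e 1 u) := fun hd => by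
          have := Nat.le_of_dvd (by norm_num) (hd.trans hg4)
          omega
        have h2 : r ∣ orderOf x := by
          rw [hx]
          have h3 : r ∣ ttor t' u 4 * (Nat.gcd 4 (AA e 1 u) * AA e 1 u) := by
            rw [hT, hsq]
            exact hru.mul_right _
          rcases hrp.dvd_mul.1 h3 with h3 | h3
          · exact h3
          · rcases hrp.dvd_mul.1 h3 with h3 | h3
            · exact absurd h3 hr4
            · exact absurd h3 h1
        obtain ⟨O, hO, hOd, hOle⟩ := oddpart (k := 2) hu2 rfl (by norm_num)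
        refine nl (k := 2) (O := O) x (by norm_num) rfl hO hOd hOle ?_ h2 (Or.inl (by omega))
        rw [hx]
        have h3 : O ∣ ttor t' u 4 * (Nat.gcd 4 (AA e 1 u) * AA e 1 u) := by
          rw [hT, hsq]
          exact hOd.mul_left _
        refine Nat.Coprime.dvd_of_dvd_mul_right ?_ h3
        refine Nat.Coprime.mul_right ?_ ?_
        · exact Nat.Coprime.coprime_dvd_right hg4
            (Nat.Coprime.mul_right (Nat.coprime_two_right.2 hO) (Nat.coprime_two_right.2 hO) : Nat.Coprime O (2 * 2))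
        · have h4 : AA e 1 u ∣ u ^ 2 - 1 := by
            rw [← AA_two (e := e)]
            exact AA_one_dvd (by omega)
          refine Nat.Coprime.coprime_dvd_right h4 ?_
          refine Nat.coprime_of_dvd fun s hs hsO hs2 => ?_
          have e4 := hsO.trans hOd
          have e5 := Nat.dvd_sub e4 hs2
          have e6 := Nat.one_le_pow 2 u (by omega)
          rw [show u ^ 2 + 1 - (u ^ 2 - 1) = 2 by omega] at e5
          have e7 := (Nat.prime_dvd_prime_iff_eq hs Nat.prime_two).1 e5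
          rw [e7] at hsO
          exact Nat.not_even_iff_odd.2 hO (even_iff_two_dvd.2 hsO)
    · -- `5 ≤ n`
      obtain ⟨k, c, x, hk2, h2, h3, hcase⟩ := torA h.base.v_prime h.is hA h5 (by rw [← hue]; exact hu2) hrp
        (by rw [← hue]; exact hru)
      rw [← hue] at h3
      have hW := W_low (e := e) hu10 hk2
      rcases hcase with ⟨rfl, rfl, hc1, hc5⟩ | ⟨rfl, rfl, hc6⟩ | ⟨rfl, rfl, hc1, hc7⟩ | ⟨rfl, rfl, hc1, hc8⟩ |
        ⟨h9, rfl, hnk⟩
      · exact fin_A (n := 5) hq hu10 hk2 hW (hbound x hk2 hc1 h2 h3) hsize hup (Or.inr (Or.inl ⟨rfl, rfl, hc5⟩))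
      · -- `n = 6`
        have e1 : Nat.gcd (AA e 3 u / AA e 1 u) K = 1 := by
          rcases (Nat.dvd_prime Nat.prime_three).1 (hsm (k := 3) rfl) with h | h
          · exact h
          · exfalso
            have := (hpr 3 Nat.prime_three (by rw [← h]; exact Nat.gcd_dvd_right _ _)).1
            omega
        have e2 := hN x h2 h3
        rw [e1, one_mul] at e2
        obtain ⟨R', hR'⟩ := hR2
        have e3 : AA e 3 u / AA e 1 u ∣ R' * 3 * (2 * 2) := by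
          refine e2.trans ?_
          rw [hR', show R' * 3 * (2 * 2) = 2 * R' * 6 by ring]
          exact Nat.mul_dvd_mul_left _ hc6
        have hodd := Nat.odd_iff.2 (W3_odd (e := e) hu2)
        have e4 : AA e 3 u / AA e 1 u ∣ R' * 3 :=
          (Nat.Coprime.mul_right (Nat.coprime_two_right.2 hodd) (Nat.coprime_two_right.2 hodd)).dvd_of_dvd_mul_right e3
        have e5 := Nat.le_of_dvd (by omega) e4
        rw [hup, show 6 - 1 = 5 by rfl] at hsize
        rw [show 3 - 1 = 2 by rfl] at hW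
        exact fin_six' hq hW (by omega) hsize
      · exact fin_A (n := 7) hq hu10 hk2 hW (hbound x hk2 hc1 h2 h3) hsize hup
          (Or.inr (Or.inr (Or.inl ⟨rfl, rfl, hc7⟩)))
      · exact fin_A (n := 8) hq hu10 hk2 hW (hbound x hk2 hc1 h2 h3) hsize hup
          (Or.inr (Or.inr (Or.inr (Or.inl ⟨rfl, rfl, hc8⟩))))
      · exact fin_A (n := n) hq hu10 hk2 hW (hbound x hk2 le_rfl h2 h3) hsize hup
          (Or.inr (Or.inr (Or.inr (Or.inr ⟨h9, rfl, hnk⟩))))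
  have hrk := h.base.rk3
  cases t' with
  | psl n =>
    have hn : 4 ≤ n := by
      rcases hrk with h | h | h
      · exact h
      · exact Fam.noConfusion h
      · exact Fam.noConfusion h
    refine lin (n := n) (e := true) ⟨rfl, rfl⟩ rfl hn ?_ trivial
    rintro rfl
    have := (val_psl (n := 4) (q := u) (by norm_num) hu2).1
    rw [AA_true, pow_one]
    exact ⟨this, by norm_num, Or.inl rfl⟩
  | psu n =>
    have hn : 4 ≤ n := by
      rcases hrk with h | h | h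
      · exact h
      · exact Fam.noConfusion h
      · exact Fam.noConfusion h
    refine lin (n := n) (e := false) ⟨rfl, rfl⟩ rfl hn ?_ trivial
    rintro rfl
    have := (val_psu (n := 4) (q := u) (by norm_num) hu2).1
    rw [AA_false_odd (by norm_num), pow_one]
    exact ⟨this, by norm_num, Or.inl rfl⟩
  | psp m =>
    have hm : 3 ≤ m := by
      rcases hrk with h | h | h
      · have : 4 ≤ m := h
        omega
      · cases h
        exact le_rfl
      · exact Fam.noConfusion h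
    exact nlin (m := m) rfl (k := 2 * ((m - 1) / 2)) (by omega) (by omega) (by omega) (Or.inl ⟨Or.inl rfl, by omega⟩)
  | oodd m =>
    have hm : 3 ≤ m := by
      rcases hrk with h | h | h
      · have : 4 ≤ m := h
        omega
      · exact Fam.noConfusion h
      · cases h
        exact le_rfl
    exact nlin (m := m) rfl (k := 2 * ((m - 1) / 2)) (by omega) (by omega) (by omega) (Or.inl ⟨Or.inr rfl, by omega⟩)
  | oplus m =>
    have hm : 4 ≤ m := by
      rcases hrk with h | h | h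
      · exact h
      · exact Fam.noConfusion h
      · exact Fam.noConfusion h
    exact nlin (m := m) rfl (k := 2 * ((m - 2) / 2)) (by omega) (by omega) (by omega) (Or.inr ⟨Or.inl rfl, by omega⟩)
  | ominus m =>
    have hm : 4 ≤ m := by
      rcases hrk with h | h | h
      · exact h
      · exact Fam.noConfusion h
      · exact Fam.noConfusion h
    exact nlin (m := m) rfl (k := 2 * ((m - 2) / 2)) (by omega) (by omega) (by omega) (Or.inr ⟨Or.inr rfl, by omega⟩)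
  | _ => exact htop.elim

end

end Cfsg.Agent.R2.Spec.SD
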