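import Cfsg.Agent.R2.Spec.SD.IrrT

/-!
# Small ranks (helper10): the numbers of the irregular alternative
-/

set_option autoImplicit false

namespace Cfsg.Agent.R2.Spec.SD

open Cfsg Cfsg.Agent.H426.LieFam Cfsg.Agent.R2.Spec Cfsg.Agent.R2.Spec.P1 Cfsg.Agent.R2.Spec.F1 Cfsg.Agent.R2.Spec.E
open Cfsg.Agent.R2.Spec.NA (AA_one_dvd AA_pos AA_true AA_false_even AA_false_odd)
open Cfsg.Agent.R2.Spec.Gamma (dvd_of_val val_le_of_dvd pow_sub_ne sq_dvd_even)
open Cfsg.Agent.H403.NumTop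

/-- the smooth part of `(y ^ k - 1) / (y - 1)` divides `k` -/
theorem lte_W {e : Bool} {k u y : ℕ} (hu : 2 ≤ u) (hk : k % 2 = 1) (hyo : Odd y)
    (hyW : y ∣ AA e k u / AA e 1 u) (hys : ∀ s : ℕ, s.Prime → s ∣ y → s ∣ u ^ 2 - 1) : y ∣ k := by
  have hk0 : k ≠ 0 := by omega
  have hA1 : 0 < AA e 1 u := AA_pos hu le_rfl
  have hAk : 0 < AA e k u := AA_pos hu (by omega)
  have hd1 : AA e 1 u ∣ AA e k u := AA_one_dvd (by omega)
  have hW := Nat.div_mul_cancel hd1
  obtain ⟨W, hWe⟩ : ∃ W, W = AA e k u / AA e 1 u := ⟨_, rfl⟩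
  rw [← hWe] at hW hyW
  have hW0 : W ≠ 0 := by
    rintro rfl
    rw [zero_mul] at hW
    omega
  have hy0 : y ≠ 0 := by
    rintro rfl
    exact hW0 (Nat.eq_zero_of_zero_dvd hyW)
  refine dvd_of_val hy0 hk0 fun s hsp hsy => ?_
  have hf := Fact.mk hsp
  have hs2 : s ≠ 2 := by
    rintro rfl
    exact Nat.not_even_iff_odd.2 hyo (even_iff_two_dvd.2 hsy)
  have hodd := hsp.odd_of_ne_two hs2
  refine (val_le_of_dvd hsp hW0 hyW).trans ?_
  have hval : padicValNat s W + padicValNat s (AA e 1 u) = padicValNat s (AA e k u) := by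
    rw [← padicValNat.mul hW0 hA1.ne', hW]
  have h2 := (hys s hsp hsy).trans (sq_dvd_even (q := u) (m := k - 1) (by omega))
  have h3 : s ∣ AA e k u := (hsy.trans hyW).trans (by rw [← hW]; exact Dvd.intro _ rfl)
  cases e with
  | true =>
    rw [AA_true] at hval h3
    rw [AA_true, pow_one] at hval
    have h1 : s ∣ u - 1 := by
      rw [Gamma.sub_one_mul (by omega) (by omega)] at h3
      exact (Nat.dvd_add_right (Dvd.dvd.mul_left h2 _)).1 h3
    have h4 : ¬ s ∣ u := by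
      intro h3
      have h4 : s ∣ 1 := by
        have := (Nat.dvd_sub h3 h1)
        rwa [show u - (u - 1) = 1 by omega] at this
      exact hsp.one_lt.ne' (Nat.dvd_one.1 h4)
    have h5 := padicValNat.pow_sub_pow (p := s) (x := u) (y := 1) hodd (by omega) h1 h4 hk0
    rw [one_pow] at h5
    omega
  | false =>
    rw [AA_false_odd hk] at hval h3
    rw [AA_false_odd (by norm_num), pow_one] at hval
    have h1 : s ∣ u + 1 := by
      rw [Gamma.add_one_mul (by omega) (by omega)] at h3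
      exact (Nat.dvd_add_right (Dvd.dvd.mul_left h2 _)).1 h3
    have h4 : ¬ s ∣ u := by
      intro h3
      exact hsp.one_lt.ne' (Nat.dvd_one.1 ((Nat.dvd_add_right h3).1 h1))
    have h5 := padicValNat.pow_add_pow (p := s) (x := u) (y := 1) hodd h1 h4 (n := k) (Nat.odd_iff.2 hk)
    rw [one_pow] at h5
    omega

/-- the size of `(y ^ k - 1) / (y - 1)` -/
theorem W_low {e : Bool} {k u : ℕ} (hu : 10 ≤ u) (hk : k % 2 = 1) :
    10 * u ^ (k - 1) ≤ 11 * (AA e k u / AA e 1 u) := by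
  have hd1 : AA e 1 u ∣ AA e k u := AA_one_dvd (by omega)
  have hW := Nat.div_mul_cancel hd1
  obtain ⟨W, hWe⟩ : ∃ W, W = AA e k u / AA e 1 u := ⟨_, rfl⟩
  rw [← hWe] at hW ⊢
  have hp : u ^ k = u ^ (k - 1) * u := by rw [← pow_succ]; congr 1; omega
  have h1 := Nat.one_le_pow (k - 1) u (by omega)
  cases e with
  | true =>
    rw [AA_true, AA_true, pow_one, hp] at hW
    obtain ⟨w, rfl⟩ : ∃ w, u = w + 1 := ⟨u - 1, by omega⟩
    rw [Nat.add_sub_cancel] at hW
    have h2 : (w + 1) ^ (k - 1) * w ≤ W * w := by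
      rw [hW, mul_add]
      omega
    have h3 := Nat.le_of_mul_le_mul_right h2 (by omega)
    omega
  | false =>
    rw [AA_false_odd hk, AA_false_odd (by norm_num), pow_one, hp] at hW
    refine Nat.le_of_mul_le_mul_right (c := u + 1) ?_ (by omega)
    have h2 : 11 * W * (u + 1) = 11 * (u ^ (k - 1) * u + 1) := by rw [← hW]; ring
    rw [h2]
    nlinarith

theorem W3_odd {e : Bool} {u : ℕ} (hu : 2 ≤ u) : (AA e 3 u / AA e 1 u) % 2 = 1 := by
  have hd1 : AA e 1 u ∣ AA e 3 u := AA_one_dvd (by omega)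
  have hW := Nat.div_mul_cancel hd1
  have hpos : 0 < AA e 1 u := AA_pos hu le_rfl
  obtain ⟨W, hWe⟩ : ∃ W, W = AA e 3 u / AA e 1 u := ⟨_, rfl⟩
  rw [← hWe] at hW ⊢
  obtain ⟨w, rfl⟩ : ∃ w, u = w + 1 := ⟨u - 1, by omega⟩
  have hpar : ∀ x : ℕ, (x * (x + 1)) % 2 = 0 := fun x => Nat.even_iff.1 (Nat.even_mul_succ_self x)
  cases e with
  | true =>
    rw [AA_true, AA_true, pow_one, Nat.add_sub_cancel] at hW
    have h1 : (w + 1) ^ 3 - 1 = ((w + 1) * (w + 2) + 1) * w := by
      have : (w + 1) ^ 3 = ((w + 1) * (w + 2) + 1) * w + 1 := by ring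
      omega
    rw [h1] at hW
    have h2 := Nat.eq_of_mul_eq_mul_right (show 0 < w by omega) hW
    have h3 := hpar (w + 1)
    rw [show w + 1 + 1 = w + 2 by ring] at h3
    rw [h2]
    omega
  | false =>
    rw [AA_false_odd (by norm_num), AA_false_odd (by norm_num), pow_one] at hW
    have h1 : (w + 1) ^ 3 + 1 = (w * (w + 1) + 1) * (w + 1 + 1) := by ring
    rw [h1] at hW
    have h2 := Nat.eq_of_mul_eq_mul_right (show 0 < w + 1 + 1 by omega) hW
    have h3 := hpar w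
    rw [h2]
    omega

/-- the odd part of `u ^ k + 1`, `k` even -/
theorem oddpart {u k : ℕ} (hu : 2 ≤ u) (hk : k % 2 = 0) (hk0 : 1 ≤ k) :
    ∃ O : ℕ, Odd O ∧ O ∣ u ^ k + 1 ∧ u ^ k + 1 ≤ 2 * O := by
  rcases Nat.mod_two_eq_zero_or_one u with h | h
  · refine ⟨u ^ k + 1, ?_, dvd_rfl, by omega⟩
    rw [Nat.odd_iff]
    have : u ^ k % 2 = 0 := Nat.mod_eq_zero_of_dvd ((Nat.dvd_of_mod_eq_zero h).trans (dvd_pow_self u (by omega)))
    omega
  · have h4 := Cfsg.Agent.R2.Spec.Gamma.mod_four_of_even h hk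
    refine ⟨(u ^ k + 1) / 2, ?_, Nat.div_dvd_of_dvd (by omega), by omega⟩
    rw [Nat.odd_iff]
    omega

/-- the exponent of the upper bound -/
def upE : Fam → ℕ
  | .psl m => m - 1
  | .psu m => m - 1
  | t => rk t

theorem up_le {u m a : ℕ} (hu : 10 ≤ u) (hm : 3 ≤ m) (h : a ≤ (u ^ (m - 1) + 1) * (u + 1)) :
    10 * a ≤ 12 * u ^ m := by
  obtain ⟨d, rfl⟩ : ∃ d, m = d + 3 := ⟨m - 3, by omega⟩
  rw [show d + 3 - 1 = d + 2 by omega] at h
  have h1 : u ^ (d + 3) = u ^ (d + 2) * u := pow_succ _ _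
  have h2 : 100 ≤ u ^ (d + 2) := by
    have h3 : u ^ 2 ≤ u ^ (d + 2) := Nat.pow_le_pow_right (by omega) (by omega)
    have h4 : 10 ^ 2 ≤ u ^ 2 := Nat.pow_le_pow_left hu 2
    omega
  rw [h1]
  obtain ⟨X, hX⟩ : ∃ X, X = u ^ (d + 2) := ⟨_, rfl⟩
  rw [← hX] at h h2 ⊢
  nlinarith

/-- **The upper bound of the isolated numbers of `S`.** -/
theorem P_le {t : Fam} {u i : ℕ} (hu : 10 ≤ u) (hr : RkS t) (hi : top t i) : 10 * ttor t u i ≤ 12 * u ^ upE t := by
  have hm3 : ∀ {m : ℕ}, rk t = m → 3 ≤ m := by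
    intro m hm
    rcases hr with h | rfl | rfl
    · omega
    · have : m = 3 := hm.symm
      omega
    · have : m = 3 := hm.symm
      omega
  have gp : ∀ {x : ℕ}, 1 ≤ x → ∀ y, 1 ≤ Nat.gcd x y := fun hx y => Nat.gcd_pos_of_pos_left _ hx
  have mulle : ∀ {a g b : ℕ}, 1 ≤ g → a * g = b → a ≤ b := by
    intro a g b hg h
    rw [← h]
    exact Nat.le_mul_of_pos_right a hg
  cases t with
  | psl m =>
    have hm : 3 ≤ m := hm3 rfl
    obtain ⟨h1, h2⟩ := val_psl (n := m) (q := u) (by omega) (by omega)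
    change 10 * _ ≤ 12 * u ^ (m - 1)
    have hp : u ^ m = u ^ (m - 1) * u := by rw [← pow_succ]; congr 1; omega
    have hp1 := Nat.one_le_pow (m - 1) u (by omega)
    rcases hi with ⟨-, rfl | h⟩
    · obtain ⟨w, rfl⟩ : ∃ w, u = w + 1 := ⟨u - 1, by omega⟩
      rw [Nat.add_sub_cancel] at h1
      have h3 : ttor (.psl i) (w + 1) i * w ≤ (w + 1) ^ i := by
        have := mulle (a := ttor (.psl i) (w + 1) i * w) (g := Nat.gcd i w) (b := (w + 1) ^ i - 1) (gp (by omega) _)
          (by rw [← h1]; ring)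
        omega
      refine Nat.le_of_mul_le_mul_right (c := w) ?_ (by omega)
      rw [hp] at h3
      nlinarith
    · obtain rfl : i = m - 1 := by omega
      have := mulle (gp (show 1 ≤ m by omega) (u - 1)) h2
      omega
  | psu m =>
    have hm : 3 ≤ m := hm3 rfl
    obtain ⟨h1, h2⟩ := val_psu (n := m) (q := u) (by omega) (by omega)
    change 10 * _ ≤ 12 * u ^ (m - 1)
    have hp : u ^ m = u ^ (m - 1) * u := by rw [← pow_succ]; congr 1; omega
    have hp1 := Nat.one_le_pow (m - 1) u (by omega)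
    have hp2 : 10 ≤ u ^ (m - 1) := hu.trans (Nat.le_self_pow (by omega) u)
    rcases hi with ⟨-, rfl | h⟩
    · have h3 : ttor (.psu i) u i * (u + 1) ≤ u ^ i + 1 := by
        have := mulle (a := ttor (.psu i) u i * (u + 1)) (g := Nat.gcd i (u + 1)) (gp (by omega) _)
          (show _ = (if i % 2 = 0 then u ^ i - 1 else u ^ i + 1) by rw [← h1]; ring)
        refine this.trans ?_
        split_ifs <;> omega
      refine Nat.le_of_mul_le_mul_right (c := u + 1) ?_ (by omega)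
      rw [hp] at h3
      nlinarith
    · obtain rfl : i = m - 1 := by omega
      have := mulle (gp (show 1 ≤ m by omega) (u + 1)) h2
      have h4 : (if m % 2 = 0 then u ^ (m - 1) + 1 else u ^ (m - 1) - 1) ≤ u ^ (m - 1) + 1 := by
        split_ifs <;> omega
      omega
  | psp m =>
    have hm : 3 ≤ m := hm3 rfl
    obtain ⟨h1, h2⟩ := val_psp (n := m) (q := u) (by omega) (by omega)
    change 10 * _ ≤ 12 * u ^ m
    have hp : 10 ≤ u ^ m := hu.trans (Nat.le_self_pow (by omega) u)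
    have g := gp (show 1 ≤ 2 by omega) (u - 1)
    have e1 := mulle g h1
    have e2 := mulle g h2
    rcases hi with rfl | ⟨rfl, -⟩ <;> omega
  | oodd m =>
    have hm : 3 ≤ m := hm3 rfl
    obtain ⟨h1, h2⟩ := val_psp (n := m) (q := u) (by omega) (by omega)
    change 10 * _ ≤ 12 * u ^ m
    rw [ttor_oodd]
    have hp : 10 ≤ u ^ m := hu.trans (Nat.le_self_pow (by omega) u)
    have g := gp (show 1 ≤ 2 by omega) (u - 1)
    have e1 := mulle g h1
    have e2 := mulle g h2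
    rcases hi with rfl | ⟨rfl, -⟩ <;> omega
  | oplus m =>
    have hm : 4 ≤ m := by
      rcases hr with h | h | h
      · exact h
      · exact Fam.noConfusion h
      · exact Fam.noConfusion h
    change 10 * _ ≤ 12 * u ^ m
    have hi' : (i = m ∧ m % 2 = 1) ∨ i = 2 * (m - 1) ∨ (i = m - 1 ∧ m % 2 = 0) := hi
    have hp1 := Nat.one_le_pow (m - 1) u (by omega)
    have hp : u ^ m = u ^ (m - 1) * u := by rw [← pow_succ]; congr 1; omega
    refine up_le hu (by omega) ?_
    rcases Nat.mod_two_eq_zero_or_one m with h2 | h2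
    · obtain ⟨h3, h4⟩ := val_oplus_even (n := m) (q := u) (by omega) h2 (by omega)
      have g := gp (show 1 ≤ 2 by omega) (u - 1)
      have e1 := mulle g h3
      have e2 := mulle g h4
      have e3 : u ^ (m - 1) + 1 ≤ (u ^ (m - 1) + 1) * (u + 1) := Nat.le_mul_of_pos_right _ (by omega)
      rcases hi' with ⟨-, h⟩ | rfl | ⟨rfl, -⟩ <;> omega
    · obtain ⟨h3, h4⟩ := val_oplus_odd (n := m) (q := u) (by omega) h2 (by omega)
      have g := gp (show 1 ≤ 4 by omega) (u ^ m - 1)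
      have e1 := mulle g h3
      have e2 := mulle g h4
      have e3 : u ^ m ≤ (u ^ (m - 1) + 1) * (u + 1) := by
        rw [hp]
        exact Nat.mul_le_mul (by omega) (by omega)
      rcases hi' with ⟨rfl, -⟩ | rfl | ⟨-, h⟩ <;> omega
  | ominus m =>
    have hm : 4 ≤ m := by
      rcases hr with h | h | h
      · exact h
      · exact Fam.noConfusion h
      · exact Fam.noConfusion h
    change 10 * _ ≤ 12 * u ^ m
    have hi' : i = 2 * m ∨ i = 2 * (m - 1) ∨ (i = m - 1 ∧ m % 2 = 0) := hi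
    have hp1 := Nat.one_le_pow (m - 1) u (by omega)
    have hp : u ^ m = u ^ (m - 1) * u := by rw [← pow_succ]; congr 1; omega
    refine up_le hu (by omega) ?_
    obtain ⟨h3, h4, h5⟩ := val_ominus (n := m) (q := u) (by omega) (by omega)
    have g := gp (show 1 ≤ 4 by omega) (u ^ m + 1)
    have e1 := mulle g h3
    have e2 := mulle g h4
    have e3 := mulle g h5
    have e4 : u ^ m + 1 ≤ (u ^ (m - 1) + 1) * (u + 1) := by
      rw [hp]
      nlinarith
    have e5 : (u ^ (m - 1) + 1) * (u - 1) ≤ (u ^ (m - 1) + 1) * (u + 1) := Nat.mul_le_mul_left _ (by omega)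
    have e6 : (u ^ (m - 1) - 1) * (u + 1) ≤ (u ^ (m - 1) + 1) * (u + 1) := Nat.mul_le_mul_right _ (by omega)
    rcases hi' with rfl | rfl | ⟨rfl, -⟩ <;> omega
  | _ => exact hi.elim

end Cfsg.Agent.R2.Spec.SD
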