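import Cfsg.Agent.R2.Spec.SD.LX
import Cfsg.Agent.R2.Spec.NA.TorTop
import Cfsg.Agent.R2.Spec.NA.Num
import Cfsg.Agent.R2.Spec.F1.NL
import Cfsg.Agent.R2.Spec.Gamma.Lte

/-!
# Small ranks (helper10): tori which contain a prime of class one or two
-/

set_option autoImplicit false

namespace Cfsg.Agent.R2.Spec.SD

open Cfsg Cfsg.Agent.H426.LieFam Cfsg.Agent.R2.Spec Cfsg.Agent.R2.Spec.P1 Cfsg.Agent.R2.Spec.F1 Cfsg.Agent.R2.Spec.E
open Cfsg.Agent.R2.Spec.P1.Eig (AN AN_one AN_neg)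
open Cfsg.Agent.R2.Spec.X5 (elt_AN IsA torL torL_one)
open Cfsg.Agent.R2.Spec.NA (torTop AA_one_dvd AA_pos AA_true AA_false_even AA_false_odd)
open Cfsg.Agent.H403.NumTop
open Cfsg.Agent.H377 (Elt Elt.two)

universe u

/-- **The families `B`, `C`, `D`.** -/
theorem torN {t : Fam} {p f m k : ℕ} {X : Type u} [Group X] (h : Fam.Is p f X t)
    (ht : ((t = .psp m ∨ t = .oodd m) ∧ k + 1 ≤ m) ∨ ((t = .oplus m ∨ t = .ominus m) ∧ k + 2 ≤ m)) (hk : 1 ≤ k)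
    {δ δ' : ℤ} (hδ : δ = 1 ∨ δ = -1) (hδ' : δ' = 1 ∨ δ' = -1) {O r : ℕ} (hO : Odd O) (hr : Odd r)
    (hOd : O ∣ AN δ k (p ^ f)) (hrd : r ∣ AN δ' 1 (p ^ f)) : ∃ x : X, O ∣ orderOf x ∧ r ∣ orderOf x := by
  rcases ht with ⟨ht, hkm⟩ | ⟨ht, hkm⟩
  · obtain ⟨x, c, hc, hx⟩ := torC h ht hk le_rfl hkm hδ hδ'
    have hc2 : ∀ {O : ℕ}, Odd O → Nat.Coprime O c := by
      intro O hO
      exact (Nat.Coprime.coprime_dvd_right hc (Nat.coprime_two_right.2 hO))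
    refine ⟨x, (hc2 hO).dvd_of_dvd_mul_right ?_, (hc2 hr).dvd_of_dvd_mul_right ?_⟩
    · rw [hx]
      exact hOd.trans (Nat.dvd_lcm_left _ _)
    · rw [hx]
      exact hrd.trans (Nat.dvd_lcm_right _ _)
  · have key : ∀ {F : Type} [Field F] [Fintype F] {ε : ℤ}, Fintype.card F = p ^ f → OD F X m ε →
        ∃ x : X, O ∣ orderOf x ∧ r ∣ orderOf x := by
      intro F _ _ ε hF hod
      have h1 := (elt_AN (F := F) (k := k) hδ hk).prod (elt_AN (F := F) (k := 1) hδ' le_rfl)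
      rw [Nat.card_eq_fintype_card, hF] at h1
      have h2 : Nat.lcm O r ∣ Nat.lcm (AN δ k (p ^ f)) (AN δ' 1 (p ^ f)) :=
        Nat.lcm_dvd (hOd.trans (Nat.dvd_lcm_left _ _)) (hrd.trans (Nat.dvd_lcm_right _ _))
      have h3 := Cfsg.Agent.H72.AdjOrth.elt_extend (h1.dvd h2) (Cfsg.Agent.H72.AdjOrth.mul_pm hδ hδ') hod.hδ
        (m := m) (by omega)
      obtain ⟨x, hx⟩ := hod.ex _ (Elt.two (by omega) (odd_lcm hO hr) h3)
      exact ⟨x, by rw [hx]; exact Nat.dvd_lcm_left _ _, by rw [hx]; exact Nat.dvd_lcm_right _ _⟩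
    rcases ht with rfl | rfl
    · obtain ⟨hm, F, _, _, hch, hF, ⟨E⟩⟩ := h
      exact key hF (od_plus hm E)
    · obtain ⟨hm, F, _, _, hch, a', b', hF, hab, ⟨E⟩⟩ := h
      exact key hF (od_minus hm hab E)

theorem AA_two {e : Bool} {u : ℕ} : AA e 2 u = u ^ 2 - 1 := by
  cases e with
  | true => exact AA_true
  | false => exact AA_false_even rfl

/-- `r` divides `lcm / c` -/
theorem dvd_of_lcm {r n c N A : ℕ} (hr : r.Prime) (h : n * c = N) (hA : r ∣ N) (hc : ¬ r ∣ c) : r ∣ n := by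
  rw [← h] at hA
  exact (hr.dvd_mul.1 hA).resolve_right hc

/-- **The linear and unitary groups.** -/
theorem torA {t : Fam} {p f n : ℕ} {e : Bool} {X : Type u} [Group X] (hp : p.Prime) (h : Fam.Is p f X t)
    (ht : IsA t n e) (hn : 5 ≤ n) (hu : 2 ≤ p ^ f) {r : ℕ} (hr : r.Prime) (hru : r ∣ (p ^ f) ^ 2 - 1) :
    ∃ (k c : ℕ) (x : X), k % 2 = 1 ∧ r ∣ orderOf x ∧ AA e k (p ^ f) / AA e 1 (p ^ f) ∣ orderOf x * c ∧
      ((n = 5 ∧ k = 3 ∧ 1 ≤ c ∧ c ≤ 5) ∨ (n = 6 ∧ k = 3 ∧ c ∣ 6) ∨ (n = 7 ∧ k = 5 ∧ 1 ≤ c ∧ c ≤ 7) ∨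
        (n = 8 ∧ k = 5 ∧ 1 ≤ c ∧ c ≤ 8) ∨ (9 ≤ n ∧ c = 1 ∧ n ≤ k + 5)) := by
  obtain ⟨u, hue⟩ : ∃ u, u = p ^ f := ⟨_, rfl⟩
  rw [← hue] at hu hru ⊢
  have h1k : ∀ k, AA e 1 u ∣ AA e k u := fun k => AA_one_dvd (by omega)
  have hdk : ∀ k, AA e k u / AA e 1 u ∣ AA e k u := fun k => Nat.div_dvd_of_dvd (h1k k)
  have hpos1 : 0 < AA e 1 u := AA_pos hu le_rfl
  -- the exponent
  obtain ⟨k, hk2, hkn, hk3, hcase⟩ : ∃ k, k % 2 = 1 ∧ k + 2 ≤ n ∧ 3 ≤ k ∧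
      ((n = 5 ∧ k = 3) ∨ (n = 6 ∧ k = 3) ∨ (n = 7 ∧ k = 5) ∨ (n = 8 ∧ k = 5) ∨ (9 ≤ n ∧ n ≤ k + 5 ∧ k + 4 ≤ n)) := by
    rcases (show n = 5 ∨ n = 6 ∨ n = 7 ∨ n = 8 ∨ 9 ≤ n by omega) with h | h | h | h | h
    · exact ⟨3, by omega, by omega, by omega, by omega⟩
    · exact ⟨3, by omega, by omega, by omega, by omega⟩
    · exact ⟨5, by omega, by omega, by omega, by omega⟩
    · exact ⟨5, by omega, by omega, by omega, by omega⟩
    · rcases Nat.mod_two_eq_zero_or_one n with h2 | h2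
      · exact ⟨n - 5, by omega, by omega, by omega, by omega⟩
      · exact ⟨n - 4, by omega, by omega, by omega, by omega⟩
  by_cases h1 : r ∣ AA e 1 u
  · obtain ⟨x, c, hx, -, hc⟩ := torL_one h ht (by omega) (k := k) (by omega) (by omega)
    have hc1 := hc hkn
    rw [← hue, hc1, mul_one] at hx
    refine ⟨k, 1, x, hk2, by rw [hx]; exact h1.trans (h1k k), by rw [hx, mul_one]; exact hdk k, ?_⟩
    rcases hcase with h | h | h | h | h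
    · exact Or.inl ⟨h.1, h.2, by omega, by omega⟩
    · exact Or.inr (Or.inl ⟨h.1, h.2, by norm_num⟩)
    · exact Or.inr (Or.inr (Or.inl ⟨h.1, h.2, by omega, by omega⟩))
    · exact Or.inr (Or.inr (Or.inr (Or.inl ⟨h.1, h.2, by omega, by omega⟩)))
    · exact Or.inr (Or.inr (Or.inr (Or.inr ⟨h.1, rfl, h.2.1⟩)))
  · have hA2 : AA e 2 u / AA e 1 u * AA e 1 u = u ^ 2 - 1 := by
      rw [Nat.div_mul_cancel (h1k 2), AA_two]
    have hr2 : r ∣ AA e 2 u / AA e 1 u := by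
      rw [← hA2] at hru
      exact (hr.dvd_mul.1 hru).resolve_right h1
    have hcn : ∀ {c : ℕ}, c ∣ Nat.gcd n (AA e 1 u) → c ∣ n ∧ ¬ r ∣ c := fun hc =>
      ⟨hc.trans (Nat.gcd_dvd_left _ _), fun hd => h1 (hd.trans (hc.trans (Nat.gcd_dvd_right _ _)))⟩
    have top : k + 2 = n → ∃ (c : ℕ) (x : X), r ∣ orderOf x ∧ AA e k u / AA e 1 u ∣ orderOf x * c ∧ c ∣ n := by
      intro hkn
      obtain ⟨x, c, hx, hc⟩ := torTop hp h ht (by omega) (k := k) (b := 2) (by omega) (by omega) hkn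
      rw [← hue] at hx hc
      obtain ⟨hc1, hc2⟩ := hcn hc
      refine ⟨c, x, ?_, by rw [hx]; exact Nat.dvd_lcm_left _ _, hc1⟩
      exact dvd_of_lcm hr hx (A := 0) (hr2.trans (Nat.dvd_lcm_right _ _)) hc2
    have two : k + 2 < n → ∃ (c : ℕ) (x : X), r ∣ orderOf x ∧ AA e k u / AA e 1 u ∣ orderOf x * c ∧ c ∣ n ∧
        (k + 4 ≤ n → c = 1) := by
      intro hkn
      obtain ⟨x, c, hx, hc, hc1⟩ := torL h ht (by omega) (k := k) (b := 2) (by omega) (by omega) hkn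
      rw [← hue] at hx hc
      obtain ⟨hc3, hc2⟩ := hcn hc
      refine ⟨c, x, ?_, by rw [hx]; exact (hdk k).trans (Nat.dvd_lcm_left _ _), hc3, hc1⟩
      exact dvd_of_lcm hr hx (A := 0) ((hr2.trans (hdk 2)).trans (Nat.dvd_lcm_right _ _)) hc2
    rcases hcase with h | h | h | h | h
    · obtain ⟨c, x, g1, g2, g3⟩ := top (by omega)
      have := Nat.le_of_dvd (by omega) g3
      exact ⟨k, c, x, hk2, g1, g2, Or.inl ⟨h.1, h.2, Nat.pos_of_dvd_of_pos g3 (by omega), by omega⟩⟩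
    · obtain ⟨c, x, g1, g2, g3, -⟩ := two (by omega)
      exact ⟨k, c, x, hk2, g1, g2, Or.inr (Or.inl ⟨h.1, h.2, by rw [h.1] at g3; exact g3⟩)⟩
    · obtain ⟨c, x, g1, g2, g3⟩ := top (by omega)
      have := Nat.le_of_dvd (by omega) g3
      exact ⟨k, c, x, hk2, g1, g2,
        Or.inr (Or.inr (Or.inl ⟨h.1, h.2, Nat.pos_of_dvd_of_pos g3 (by omega), by omega⟩))⟩
    · obtain ⟨c, x, g1, g2, g3, -⟩ := two (by omega)
      have := Nat.le_of_dvd (by omega) g3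
      exact ⟨k, c, x, hk2, g1, g2,
        Or.inr (Or.inr (Or.inr (Or.inl ⟨h.1, h.2, Nat.pos_of_dvd_of_pos g3 (by omega), by omega⟩)))⟩
    · obtain ⟨c, x, g1, g2, g3, g4⟩ := two (by omega)
      exact ⟨k, c, x, hk2, g1, g2, Or.inr (Or.inr (Or.inr (Or.inr ⟨h.1, g4 h.2.2, h.2.1⟩)))⟩

end Cfsg.Agent.R2.Spec.SD
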