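import Cfsg.Agent.R2.Spec.SD.LX
import Cfsg.Agent.R2.Spec.SD.IsoN

/-!
# Small ranks (helper10): both classes isolated in `S`, divisibility
-/

set_option autoImplicit false

namespace Cfsg.Agent.R2.Spec.SD

/-- the second coefficient is `q ± 1` -/
theorem trick_a {K q s g b c H C W : ℤ} (hK : K ∣ W) (hc : c * g = (q + s) ^ 2 ∨ c * g = -(q + s) ^ 2)
    (hW : W = b * c - (q + s) * H * C) (hW0 : W ≠ 0) (hg : 0 < g) (cop : IsCoprime K (q + s)) (hb : 0 ≤ b)
    (hs : 0 < q + s) (hH : 0 ≤ H) : K ≤ b * (q + s) + g * H * |C| := by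
  obtain ⟨ε, hε, he⟩ : ∃ ε : ℤ, |ε| = 1 ∧ c * g = ε * (q + s) ^ 2 := by
    rcases hc with h | h
    · exact ⟨1, by norm_num, by rw [h]; ring⟩
    · exact ⟨-1, by norm_num, by rw [h]; ring⟩
  have h1 : g * W = (q + s) * (ε * (b * (q + s)) - g * H * C) := by
    rw [hW]
    linear_combination b * he
  have h2 : K ∣ ε * (b * (q + s)) - g * H * C := by
    refine cop.dvd_of_dvd_mul_left ?_
    rw [← h1]
    exact hK.mul_left g
  have h3 : ε * (b * (q + s)) - g * H * C ≠ 0 := by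
    intro h0
    rw [h0, mul_zero] at h1
    rcases mul_eq_zero.1 h1 with h | h
    · omega
    · exact hW0 h
  have h4 := Int.le_of_dvd (abs_pos.2 h3) ((dvd_abs _ _).2 h2)
  refine h4.trans ((abs_sub _ _).trans ?_)
  rw [abs_mul, hε, one_mul, abs_mul (g * H) C, abs_of_nonneg (show 0 ≤ b * (q + s) by positivity),
    abs_of_nonneg (show 0 ≤ g * H by positivity)]

/-- the second coefficient is `q` -/
theorem trick_b {K q s g b c H y R C W : ℤ} (hK : K ∣ W) (hc : c * g = (q + s) ^ 2 ∨ c * g = -(q + s) ^ 2)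
    (hW : W = b * c - q * H * C) (hW0 : W ≠ 0) (hg : 0 < g) (cop : IsCoprime K (q + s)) (hb : 0 ≤ b)
    (hs : 0 < q + s) (hy : 0 < y) (hR : 0 ≤ R) (hq : 0 ≤ q) (hHy : g * H * y = (q + s) * R) :
    K ≤ b * y * (q + s) + q * R * |C| := by
  obtain ⟨ε, hε, he⟩ : ∃ ε : ℤ, |ε| = 1 ∧ c * g = ε * (q + s) ^ 2 := by
    rcases hc with h | h
    · exact ⟨1, by norm_num, by rw [h]; ring⟩
    · exact ⟨-1, by norm_num, by rw [h]; ring⟩
  have h1 : y * g * W = (q + s) * (ε * (b * y * (q + s)) - q * R * C) := by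
    rw [hW]
    linear_combination b * y * he - q * C * hHy
  have h2 : K ∣ ε * (b * y * (q + s)) - q * R * C := by
    refine cop.dvd_of_dvd_mul_left ?_
    rw [← h1]
    exact hK.mul_left (y * g)
  have h3 : ε * (b * y * (q + s)) - q * R * C ≠ 0 := by
    intro h0
    rw [h0, mul_zero] at h1
    rcases mul_eq_zero.1 h1 with h | h
    · have : 0 < y * g := by positivity
      omega
    · exact hW0 h
  have h4 := Int.le_of_dvd (abs_pos.2 h3) ((dvd_abs _ _).2 h2)
  refine h4.trans ((abs_sub _ _).trans ?_)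
  rw [abs_mul, hε, one_mul, abs_mul (q * R) C, abs_of_nonneg (show 0 ≤ b * y * (q + s) by positivity),
    abs_of_nonneg (show 0 ≤ q * R by positivity)]

theorem abs_two {c g X : ℤ} (hg : 0 < g) (h : |c| * g = X) : c * g = X ∨ c * g = -X := by
  rcases abs_choice c with h1 | h1
  · left; rw [← h, h1]
  · right; rw [← h, h1]; ring

/-- the inequalities, dimension five -/
theorem ineq_five {q s g a b c b' C K P H' y' R2 : ℤ} (hq : 256 ≤ q) (hs : s = 1 ∨ s = -1) (hg : g = 2 ∨ g = 4)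
    (hc : |c| * g = (q + s) ^ 2) (hKP : K ∣ P) (hb' : 1 ≤ b') (hH : 1 ≤ H') (hy' : 1 ≤ y')
    (cop : IsCoprime K (q + s)) (hW : P ∣ b' * c - b * H' * C) (hW0 : b' * c - b * H' * C ≠ 0) (hP0 : 0 < P)
    (hR : g * H' * y' = R2)
    (hcase : (b = q ∧ R2 = (q + s) * 2 ∧ q ^ 3 * (q - 1) ≤ 5 * K) ∨
      (b = q + s ∧ R2 ≤ 5 * (q + 1) ∧ q ^ 3 * (q - 1) ≤ 2 * K)) :
    2 * P ≤ b' * (q + 1) ^ 2 + 5 * (q + 1) ^ 2 * |C| ∧
      q ^ 3 * (q - 1) ≤ 5 * b' * (q + 1) ^ 2 + 13 * (q + 1) * |C| := by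
  have hg0 : 0 < g := by omega
  have hg2 : 2 ≤ g := by omega
  have hC0 := abs_nonneg C
  have hs1 : q + s ≤ q + 1 := by omega
  have hs0 : 0 < q + s := by omega
  have hgH : 2 * H' ≤ g * H' := mul_le_mul_of_nonneg_right hg2 (by omega)
  have hc2 : 2 * |c| ≤ (q + 1) ^ 2 := by
    have h1 := abs_nonneg c
    have h2 : (q + s) ^ 2 ≤ (q + 1) ^ 2 := by nlinarith
    have h3 : |c| * 2 ≤ |c| * g := mul_le_mul_of_nonneg_left hg2 h1
    linarith
  have hPW : P ≤ b' * |c| + |b| * H' * |C| := by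
    have h1 := Int.le_of_dvd (abs_pos.2 hW0) ((dvd_abs _ _).2 hW)
    refine h1.trans ((abs_sub _ _).trans ?_)
    rw [abs_mul, abs_mul, abs_mul, abs_of_pos (show 0 < b' by omega), abs_of_pos (show 0 < H' by omega)]
  rcases hcase with ⟨rfl, rfl, hK⟩ | ⟨rfl, hR5, hK⟩
  · have hHg : g * H' ≤ 2 * (b + 1) := by
      have : g * H' ≤ g * H' * y' := by
        have : 0 ≤ g * H' := by positivity
        nlinarith
      nlinarith
    have hH2 : H' ≤ b + 1 := by linarith
    constructor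
    · rw [abs_of_pos (show 0 < b by omega)] at hPW
      have h1 : b * H' ≤ (b + 1) * (b + 1) := by nlinarith
      have h2 : b * H' * |C| ≤ (b + 1) * (b + 1) * |C| := mul_le_mul_of_nonneg_right h1 hC0
      have h3 : b' * (2 * |c|) ≤ b' * (b + 1) ^ 2 := mul_le_mul_of_nonneg_left hc2 (by omega)
      have h4 : 0 ≤ (b + 1) ^ 2 * |C| := by positivity
      nlinarith
    · have h1 := trick_b (R := 2) (hKP.trans hW) (abs_two hg0 hc) rfl hW0 hg0 cop (by omega) hs0 (by omega) (by norm_num)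
        (by omega) hR
      have hy2 : y' ≤ b + s := by
        have : g * 1 * y' ≤ g * H' * y' := by
          have : g * 1 ≤ g * H' := mul_le_mul_of_nonneg_left hH (by omega)
          exact mul_le_mul_of_nonneg_right this (by omega)
        have h9 : 2 * y' ≤ g * y' := mul_le_mul_of_nonneg_right hg2 (by omega)
        linarith
      have h2 : y' * (b + s) ≤ (b + 1) ^ 2 := by nlinarith
      have h3 : b' * (y' * (b + s)) ≤ b' * (b + 1) ^ 2 := mul_le_mul_of_nonneg_left h2 (by omega)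
      have h4 : b * |C| ≤ (b + 1) * |C| := mul_le_mul_of_nonneg_right (by omega) hC0
      nlinarith
  · have hHg : g * H' ≤ 5 * (q + 1) := by
      have : g * H' ≤ g * H' * y' := by
        have : 0 ≤ g * H' := by positivity
        nlinarith
      linarith
    have hH2 : 2 * H' ≤ 5 * (q + 1) := by linarith
    constructor
    · rw [abs_of_pos hs0] at hPW
      have h1 : (q + s) * (2 * H') ≤ (q + 1) * (5 * (q + 1)) := by nlinarith
      have h2 : (q + s) * (2 * H') * |C| ≤ (q + 1) * (5 * (q + 1)) * |C| := mul_le_mul_of_nonneg_right h1 hC0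
      have h3 : b' * (2 * |c|) ≤ b' * (q + 1) ^ 2 := mul_le_mul_of_nonneg_left hc2 (by omega)
      nlinarith
    · have h1 := trick_a (hKP.trans hW) (abs_two hg0 hc) rfl hW0 hg0 cop (by omega) hs0 (by omega)
      have h2 : g * H' * |C| ≤ 5 * (q + 1) * |C| := mul_le_mul_of_nonneg_right hHg hC0
      have h3 : b' * (q + s) ≤ b' * (q + 1) ^ 2 := mul_le_mul_of_nonneg_left (by nlinarith) (by omega)
      have h4 : 0 ≤ (q + 1) * |C| := by positivity
      have h5 : 0 ≤ b' * (q + 1) ^ 2 := by positivity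
      nlinarith

/-- the inequalities, dimension five, type II -/
theorem ineq_five' {q c b' C K P H' y' R2 : ℤ} (hq : 256 ≤ q)
    (hc : |c| = 1) (hKP : K ∣ P) (hb' : 1 ≤ b') (hH : 1 ≤ H') (hy' : 1 ≤ y')
    (hW : P ∣ b' * c - 1 * H' * C) (hW0 : b' * c - 1 * H' * C ≠ 0) (hP0 : 0 < P)
    (hR : 2 * H' * y' = R2) (hR2 : R2 ≤ 5 * (q + 1)) (hK : q ^ 3 * (q - 1) ≤ 5 * K) :
    2 * P ≤ b' * (q + 1) ^ 2 + 5 * (q + 1) ^ 2 * |C| ∧
      q ^ 3 * (q - 1) ≤ 5 * b' * (q + 1) ^ 2 + 13 * (q + 1) * |C| := by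
  have hC0 := abs_nonneg C
  have hPW : P ≤ b' + H' * |C| := by
    have h1 := Int.le_of_dvd (abs_pos.2 hW0) ((dvd_abs _ _).2 hW)
    refine h1.trans ((abs_sub _ _).trans ?_)
    rw [abs_mul, abs_mul, abs_mul, abs_of_pos (show 0 < b' by omega), abs_of_pos (show 0 < H' by omega), hc, mul_one,
      abs_one, one_mul]
  have hKP' : K ≤ P := Int.le_of_dvd hP0 hKP
  have hHg : 2 * H' ≤ 5 * (q + 1) := by
    have : 2 * H' ≤ 2 * H' * y' := by
      have : 0 ≤ 2 * H' := by positivity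
      nlinarith
    linarith
  have h2 : 2 * H' * |C| ≤ 5 * (q + 1) * |C| := mul_le_mul_of_nonneg_right hHg hC0
  have h5 : b' * 1 ≤ b' * (q + 1) ^ 2 := mul_le_mul_of_nonneg_left (by nlinarith) (by omega)
  have h6 : (q + 1) * |C| ≤ (q + 1) ^ 2 * |C| := mul_le_mul_of_nonneg_right (by nlinarith) hC0
  have h7 : b' * 2 ≤ b' * (q + 1) ^ 2 := mul_le_mul_of_nonneg_left (by nlinarith) (by omega)
  have h8 : 0 ≤ (q + 1) * |C| := by positivity
  constructor
  · linarith
  · linarith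

/-- the second inequality, dimension six -/
theorem ineq_six {q c b b' C K P H' y' : ℤ} {g5 : ℤ} (hq : 256 ≤ q)
    (hc : |c| * 2 = (q + -1) ^ 2) (hKP : K ∣ P) (hb' : 1 ≤ b') (hH : 1 ≤ H') (hy' : 1 ≤ y')
    (cop : IsCoprime K (q + -1)) (hW : P ∣ b' * c - b * H' * C) (hW0 : b' * c - b * H' * C ≠ 0)
    (hg5 : 0 ≤ g5) (hg5' : g5 ≤ 5)
    (hcase : (b = q ∧ 2 * H' * y' = (q + -1) * ((q + 1) * g5) ∧ q ^ 3 * (q - 1) ≤ K) ∨
      (b = q + -1 ∧ 2 * H' * y' = q ^ 2 + 1 ∧ q ^ 3 * (q - 1) ≤ 5 * K)) :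
    q ^ 3 * (q - 1) ≤ 5 * (q + 1) ^ 2 * (b' + |C|) := by
  have hC0 := abs_nonneg C
  have hs0 : 0 < q + -1 := by omega
  rcases hcase with ⟨rfl, hR, hK⟩ | ⟨rfl, hR, hK⟩
  · by_cases hsm : H' ≤ b + 1
    · have h1 := Int.le_of_dvd (abs_pos.2 hW0) ((dvd_abs _ _).2 (hKP.trans hW))
      have h2 := h1.trans (abs_sub _ _)
      rw [abs_mul, abs_mul, abs_mul, abs_of_pos (show 0 < b' by omega), abs_of_pos (show 0 < H' by omega),
        abs_of_pos (show 0 < b by omega)] at h2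
      have h3 : b' * |c| ≤ b' * (b + 1) ^ 2 := mul_le_mul_of_nonneg_left (by nlinarith [abs_nonneg c]) (by omega)
      have h4 : b * H' * |C| ≤ (b + 1) ^ 2 * |C| := mul_le_mul_of_nonneg_right (by nlinarith) hC0
      have h5 : 0 ≤ b' * (b + 1) ^ 2 := by positivity
      have h6 : 0 ≤ (b + 1) ^ 2 * |C| := by positivity
      nlinarith
    · push Not at hsm
      have h1 := trick_b (R := (b + 1) * g5) (hKP.trans hW) (abs_two (by norm_num) hc) rfl hW0 (by norm_num) cop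
        (by omega) hs0 (by omega) (by positivity) (by omega) hR
      have hy2 : 2 * y' ≤ 5 * (b - 1) := by
        have k1 : 2 * (b + 1) * y' ≤ 2 * H' * y' := by nlinarith
        have k2 : (b + -1) * ((b + 1) * g5) ≤ (b + -1) * ((b + 1) * 5) := by
          have : (b + 1) * g5 ≤ (b + 1) * 5 := mul_le_mul_of_nonneg_left hg5' (by omega)
          exact mul_le_mul_of_nonneg_left this (by omega)
        have k3 : (b + 1) * (2 * y') ≤ (b + 1) * (5 * (b - 1)) := by linarith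
        exact le_of_mul_le_mul_left k3 (by omega)
      have h2 : y' * (b + -1) ≤ 5 * (b + 1) ^ 2 := by nlinarith
      have h3 : b' * (y' * (b + -1)) ≤ b' * (5 * (b + 1) ^ 2) := mul_le_mul_of_nonneg_left h2 (by omega)
      have h4 : b * ((b + 1) * g5) ≤ 5 * (b + 1) ^ 2 := by
        have : (b + 1) * g5 ≤ (b + 1) * 5 := mul_le_mul_of_nonneg_left hg5' (by omega)
        have : b * ((b + 1) * g5) ≤ b * ((b + 1) * 5) := mul_le_mul_of_nonneg_left this (by omega)
        nlinarith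
      have h5 : b * ((b + 1) * g5) * |C| ≤ 5 * (b + 1) ^ 2 * |C| := mul_le_mul_of_nonneg_right h4 hC0
      linarith
  · have h1 := trick_a (hKP.trans hW) (abs_two (by norm_num) hc) rfl hW0 (by norm_num) cop (by omega) hs0 (by omega)
    have hHg : 2 * H' ≤ q ^ 2 + 1 := by
      have : 2 * H' ≤ 2 * H' * y' := by
        have : 0 ≤ 2 * H' := by positivity
        nlinarith
      linarith
    have h2 : 2 * H' * |C| ≤ (q + 1) ^ 2 * |C| := mul_le_mul_of_nonneg_right (by nlinarith) hC0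
    have h3 : b' * (q + -1) ≤ b' * (q + 1) ^ 2 := mul_le_mul_of_nonneg_left (by nlinarith) (by omega)
    nlinarith

/-- the first inequality, dimension six -/
theorem ineq_six' {q c a a' C Q H y : ℤ} (hq : 256 ≤ q)
    (hc : |c| * 2 = (q + -1) ^ 2) (ha' : 1 ≤ a') (hH : 1 ≤ H) (hy : 1 ≤ y) (ha : a = q + -1)
    (hQ : Q ≤ a' * |c| + a * H * |C|) (hR : 2 * H * y = q ^ 2 + 1) :
    2 * Q ≤ a' * (q + 1) ^ 2 + (q + 1) ^ 3 * |C| := by
  subst ha
  have hC0 := abs_nonneg C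
  have hHg : 2 * H ≤ q ^ 2 + 1 := by
    have : 2 * H ≤ 2 * H * y := by
      have : 0 ≤ 2 * H := by positivity
      nlinarith
    linarith
  have h1 : (q + -1) * (2 * H) ≤ (q + 1) ^ 3 := by
    have : (q + -1) * (2 * H) ≤ (q + -1) * (q ^ 2 + 1) := mul_le_mul_of_nonneg_left hHg (by omega)
    nlinarith
  have h2 : (q + -1) * (2 * H) * |C| ≤ (q + 1) ^ 3 * |C| := mul_le_mul_of_nonneg_right h1 hC0
  have h3 : a' * (|c| * 2) ≤ a' * (q + 1) ^ 2 := mul_le_mul_of_nonneg_left (by nlinarith) (by omega)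
  linarith

end Cfsg.Agent.R2.Spec.SD
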