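import Cfsg.Agent.R2.Spec.SD.Srch
import Cfsg.Agent.R2.Spec.E.NonC
import Cfsg.Agent.R2.Spec.E.IsoRaw

/-!
# Small ranks (helper10): the numbers of `L`

`Row t q i j c c' g` : `ttor t q i * g = FF c q`, `ttor t q j * g = FF c' q`, `g = 2` or `g = 4`, the codes `c`, `c'`.
-/

set_option autoImplicit false

namespace Cfsg.Agent.R2.Spec.SD

open Cfsg Cfsg.Agent.H426.LieFam Cfsg.Agent.R2.Spec Cfsg.Agent.R2.Spec.P1 Cfsg.Agent.R2.Spec.F1 Cfsg.Agent.R2.Spec.E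

/-- the numbers of `L`, without the factor two or four -/
def FF (c q : ℕ) : ℕ :=
  match c with
  | 0 => q ^ 5 - 1
  | 1 => q ^ 5 + 1
  | 2 => (q ^ 4 + 1) * (q + 1)
  | 3 => q ^ 6 + 1
  | 4 => (q ^ 5 + 1) * (q - 1)
  | _ => (q ^ 4 + 1) * (q - 1)

/-- the primitive parts -/
def KF (c q : ℕ) : ℕ :=
  match c with
  | 5 => (q ^ 4 + 1) / 2
  | c => KK c q

/-- the order of `q` modulo the primes of the primitive part -/
def IF (c : ℕ) : ℕ :=
  match c with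
  | 0 => 5
  | 1 => 10
  | 2 => 8
  | 3 => 12
  | 4 => 10
  | _ => 8

theorem gcd_five (x : ℕ) : Nat.gcd 5 x = 1 ∨ Nat.gcd 5 x = 5 :=
  (Nat.dvd_prime Nat.prime_five).1 (Nat.gcd_dvd_left 5 x)

theorem phi5_mod {q : ℕ} : (q ^ 4 + q ^ 3 + q ^ 2 + q + 1) % 5 = 0 → q % 5 = 1 := by
  have h : ∀ x < 5, (x ^ 4 + x ^ 3 + x ^ 2 + x + 1) % 5 = 0 → x = 1 := by decide
  intro h1
  refine h (q % 5) (Nat.mod_lt _ (by norm_num)) ?_
  rw [← h1]
  simp [Nat.add_mod, Nat.pow_mod]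

theorem phi5_mod25 {q : ℕ} (hq : q % 5 = 1) : ¬ 25 ∣ q ^ 4 + q ^ 3 + q ^ 2 + q + 1 := by
  intro hd
  have h : ∀ x < 25, x % 5 = 1 → (x ^ 4 + x ^ 3 + x ^ 2 + x + 1) % 25 ≠ 0 := by decide
  refine h (q % 25) (Nat.mod_lt _ (by norm_num)) (by omega) ?_
  rw [← Nat.mod_eq_zero_of_dvd hd]
  simp [Nat.add_mod, Nat.pow_mod]

/-- `Φ_5(q) = K * gcd(5, q - 1)` and `5` does not divide `K` -/
theorem k5_spec {q : ℕ} (hq : 1 ≤ q) : KK 0 q * Nat.gcd 5 (q - 1) = q ^ 4 + q ^ 3 + q ^ 2 + q + 1 ∧ ¬ 5 ∣ KK 0 q := by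
  change (q ^ 4 + q ^ 3 + q ^ 2 + q + 1) / Nat.gcd 5 (q - 1) * Nat.gcd 5 (q - 1) = _ ∧ ¬ 5 ∣
    (q ^ 4 + q ^ 3 + q ^ 2 + q + 1) / Nat.gcd 5 (q - 1)
  rcases gcd_five (q - 1) with h | h
  · rw [h, Nat.div_one, mul_one]
    refine ⟨rfl, fun hd => ?_⟩
    have h1 := phi5_mod (Nat.mod_eq_zero_of_dvd hd)
    have h2 : 5 ∣ Nat.gcd 5 (q - 1) := Nat.dvd_gcd dvd_rfl (by omega)
    rw [h] at h2
    omega
  · have h1 : 5 ∣ q - 1 := by
      rw [← h]
      exact Nat.gcd_dvd_right _ _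
    have h2 : q % 5 = 1 := by omega
    have h3 : 5 ∣ q ^ 4 + q ^ 3 + q ^ 2 + q + 1 := by
      apply Nat.dvd_of_mod_eq_zero
      have : (q ^ 4 + q ^ 3 + q ^ 2 + q + 1) % 5 = ((q % 5) ^ 4 + (q % 5) ^ 3 + (q % 5) ^ 2 + (q % 5) + 1) % 5 := by
        simp [Nat.add_mod, Nat.pow_mod]
      rw [this, h2]
      norm_num
    rw [h]
    refine ⟨Nat.div_mul_cancel h3, fun hd => ?_⟩
    obtain ⟨k, hk⟩ := hd
    apply phi5_mod25 h2
    refine ⟨k, ?_⟩
    have := Nat.div_mul_cancel h3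
    rw [hk] at this
    omega

/-- `Φ_10(q)` in the natural numbers -/
theorem phi10_nat {q : ℕ} (hq : 1 ≤ q) : ((q ^ 4 - q ^ 3 + q ^ 2 - q + 1 : ℕ) : ℤ) =
    (q : ℤ) ^ 4 - q ^ 3 + q ^ 2 - q + 1 := by
  have h1 : q ^ 3 ≤ q ^ 4 := Nat.pow_le_pow_right hq (by norm_num)
  have h2 : q ≤ q ^ 2 := Nat.le_self_pow (by norm_num) q
  have h3 : q ≤ q ^ 4 - q ^ 3 + q ^ 2 := by omega
  push_cast [Nat.cast_sub h1, Nat.cast_sub h3]
  ring

theorem k10_spec {q : ℕ} (hq : 1 ≤ q) : KK 1 q * Nat.gcd 5 (q + 1) = q ^ 4 - q ^ 3 + q ^ 2 - q + 1 ∧ ¬ 5 ∣ KK 1 q := by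
  have hkey : ∀ m : ℕ, 0 < m → (m ∣ q ^ 4 - q ^ 3 + q ^ 2 - q + 1 ↔
      m ∣ ((m - 1) * q) ^ 4 + ((m - 1) * q) ^ 3 + ((m - 1) * q) ^ 2 + ((m - 1) * q) + 1) := by
    intro m hm
    have h1 : ((((m - 1) * q) ^ 4 + ((m - 1) * q) ^ 3 + ((m - 1) * q) ^ 2 + ((m - 1) * q) + 1 : ℕ) : ZMod m) =
        ((q ^ 4 - q ^ 3 + q ^ 2 - q + 1 : ℕ) : ZMod m) := by
      have h2 : ((m - 1 : ℕ) : ZMod m) = -1 := by
        rw [Nat.cast_sub hm, Nat.cast_one, ZMod.natCast_self, zero_sub]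
      have h3 : ((q ^ 4 - q ^ 3 + q ^ 2 - q + 1 : ℕ) : ZMod m) = (q : ZMod m) ^ 4 - q ^ 3 + q ^ 2 - q + 1 := by
        have := congrArg (fun z : ℤ => (z : ZMod m)) (phi10_nat hq)
        push_cast at this
        rw [← this]
        push_cast
        rfl
      rw [h3]
      push_cast
      rw [h2]
      ring
    rw [← ZMod.natCast_eq_zero_iff, ← ZMod.natCast_eq_zero_iff, h1]
  change (q ^ 4 - q ^ 3 + q ^ 2 - q + 1) / Nat.gcd 5 (q + 1) * Nat.gcd 5 (q + 1) = _ ∧ ¬ 5 ∣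
    (q ^ 4 - q ^ 3 + q ^ 2 - q + 1) / Nat.gcd 5 (q + 1)
  rcases gcd_five (q + 1) with h | h
  · rw [h, Nat.div_one, mul_one]
    refine ⟨rfl, fun hd => ?_⟩
    have h1 := phi5_mod (Nat.mod_eq_zero_of_dvd ((hkey 5 (by norm_num)).1 hd))
    have h2 : 5 ∣ Nat.gcd 5 (q + 1) := Nat.dvd_gcd dvd_rfl (by omega)
    rw [h] at h2
    omega
  · have h1 : 5 ∣ q + 1 := by
      rw [← h]
      exact Nat.gcd_dvd_right _ _
    have h2 : ((5 - 1) * q) % 5 = 1 := by omega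
    have h3 : 5 ∣ q ^ 4 - q ^ 3 + q ^ 2 - q + 1 := by
      rw [hkey 5 (by norm_num)]
      apply Nat.dvd_of_mod_eq_zero
      obtain ⟨x, hx⟩ : ∃ x, x = (5 - 1) * q := ⟨_, rfl⟩
      rw [← hx] at h2 ⊢
      have : (x ^ 4 + x ^ 3 + x ^ 2 + x + 1) % 5 = ((x % 5) ^ 4 + (x % 5) ^ 3 + (x % 5) ^ 2 + (x % 5) + 1) % 5 := by
        simp [Nat.add_mod, Nat.pow_mod]
      rw [this, h2]
      norm_num
    rw [h]
    refine ⟨Nat.div_mul_cancel h3, fun hd => ?_⟩
    obtain ⟨k, hk⟩ := hd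
    have h4 : 25 ∣ q ^ 4 - q ^ 3 + q ^ 2 - q + 1 := by
      refine ⟨k, ?_⟩
      have := Nat.div_mul_cancel h3
      rw [hk] at this
      omega
    exact phi5_mod25 (q := (25 - 1) * q) (by omega) ((hkey 25 (by norm_num)).1 h4)

theorem cls_ord {t : Fam} (ht : ∀ n, t ≠ .psu n) (q r : ℕ) : cls t q r = orderOf ((q : ℕ) : ZMod r) := by
  have h : sg t q = (q : ℤ) := by
    cases t with
    | psu n => exact absurd rfl (ht n)
    | _ => rfl
  rw [cls, h, Int.cast_natCast]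

theorem zmod_ne {r n : ℕ} (hr : r.Prime) (hn : n.Prime) (hrn : r ≠ n) : ((n : ℕ) : ZMod r) ≠ 0 := by
  rw [Ne, ZMod.natCast_eq_zero_iff, Nat.prime_dvd_prime_iff_eq hr hn]
  exact hrn

/-- **The order of `q` modulo the primes of the primitive parts.** -/
theorem ord_of_K {c q r : ℕ} (hc : c ≤ 5) (hq : 3 ≤ q) (hq2 : q % 2 = 1) (hr : r.Prime) (h : r ∣ KF c q) :
    orderOf ((q : ℕ) : ZMod r) = IF c ∧ r ≠ 2 := by
  have hfr := Fact.mk hr
  have hf5 := Fact.mk Nat.prime_five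
  obtain ⟨y, hy⟩ : ∃ y : ZMod r, y = ((q : ℕ) : ZMod r) := ⟨_, rfl⟩
  rw [← hy]
  -- the four polynomials
  have hQ4 : q ^ 4 % 2 = 1 := by rw [Nat.pow_mod, hq2]
  have hQ3 : q ^ 3 % 2 = 1 := by rw [Nat.pow_mod, hq2]
  have hQ2 : q ^ 2 % 2 = 1 := by rw [Nat.pow_mod, hq2]
  have c0 : r ∣ KK 0 q → orderOf y = 5 ∧ r ≠ 2 := by
    intro h
    obtain ⟨h1, h2⟩ := k5_spec (q := q) (by omega)
    have h5 : r ≠ 5 := by rintro rfl; exact h2 h
    have h3 : r ∣ q ^ 4 + q ^ 3 + q ^ 2 + q + 1 := by rw [← h1]; exact h.mul_right _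
    have h4 : y ^ 4 + y ^ 3 + y ^ 2 + y + 1 = 0 := by
      rw [hy]
      exact_mod_cast (ZMod.natCast_eq_zero_iff _ r).2 h3
    have h6 : y ^ 5 = 1 := by linear_combination (y - 1) * h4
    refine ⟨orderOf_eq_prime h6 fun h7 => ?_, ?_⟩
    · rw [h7] at h4
      refine zmod_ne hr Nat.prime_five h5 ?_
      push_cast
      linear_combination h4
    · rintro rfl
      omega
  have c1 : r ∣ KK 1 q → orderOf y = 10 ∧ r ≠ 2 := by
    intro h
    obtain ⟨h1, h2⟩ := k10_spec (q := q) (by omega)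
    have h5 : r ≠ 5 := by rintro rfl; exact h2 h
    have h3 : r ∣ q ^ 4 - q ^ 3 + q ^ 2 - q + 1 := by rw [← h1]; exact h.mul_right _
    have hr2 : r ≠ 2 := by
      rintro rfl
      have e1 : q ^ 3 ≤ q ^ 4 := Nat.pow_le_pow_right (by omega) (by norm_num)
      have e2 : q ≤ q ^ 2 := Nat.le_self_pow (by norm_num) q
      omega
    have h4 : y ^ 4 - y ^ 3 + y ^ 2 - y + 1 = 0 := by
      have e1 := (ZMod.natCast_eq_zero_iff _ r).2 h3
      have e2 := congrArg (fun z : ℤ => (z : ZMod r)) (phi10_nat (q := q) (by omega))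
      push_cast at e2
      rw [hy, ← e2]
      exact_mod_cast e1
    have h6 : y ^ 5 = -1 := by linear_combination (y + 1) * h4
    have h7 : (1 : ZMod r) ≠ -1 := by
      intro e
      refine zmod_ne hr Nat.prime_two hr2 ?_
      push_cast
      linear_combination e
    refine ⟨orderOf_eq_of_pow_and_pow_div_prime (by norm_num)
      (by rw [show (10 : ℕ) = 5 * 2 by norm_num, pow_mul, h6]; norm_num) fun p hp hpd => ?_, hr2⟩
    have hp' : p = 2 ∨ p = 5 := by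
      rw [show (10 : ℕ) = 2 * 5 by norm_num, hp.dvd_mul] at hpd
      rcases hpd with hpd | hpd
      · exact Or.inl ((Nat.prime_dvd_prime_iff_eq hp Nat.prime_two).1 hpd)
      · exact Or.inr ((Nat.prime_dvd_prime_iff_eq hp Nat.prime_five).1 hpd)
    rcases hp' with rfl | rfl
    · rw [show 10 / 2 = 5 by norm_num, h6]
      exact fun e => h7 e.symm
    · rw [show 10 / 5 = 2 by norm_num]
      intro e
      have e1 : y = -1 := by
        have : y ^ 5 = y := by linear_combination (y ^ 3 + y) * e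
        rw [← this, h6]
      rw [e1] at h4
      refine zmod_ne hr Nat.prime_five h5 ?_
      push_cast
      linear_combination h4
  have c2 : r ∣ (q ^ 4 + 1) / 2 → orderOf y = 8 ∧ r ≠ 2 := by
    intro h
    have h3 : r ∣ q ^ 4 + 1 := h.trans (Nat.div_dvd_of_dvd (by omega))
    have hr2 : r ≠ 2 := by
      rintro rfl
      have e1 : (q ^ 4) % 4 = 1 := by
        have : q % 4 = 1 ∨ q % 4 = 3 := by omega
        rw [Nat.pow_mod]
        rcases this with h | h <;> rw [h] <;> norm_num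
      omega
    have h4 : y ^ 4 = -1 := by
      have : y ^ 4 + 1 = 0 := by
        rw [hy]
        exact_mod_cast (ZMod.natCast_eq_zero_iff _ r).2 h3
      linear_combination this
    have h7 : (1 : ZMod r) ≠ -1 := by
      intro e
      refine zmod_ne hr Nat.prime_two hr2 ?_
      push_cast
      linear_combination e
    refine ⟨orderOf_eq_of_pow_and_pow_div_prime (by norm_num)
      (by rw [show (8 : ℕ) = 4 * 2 by norm_num, pow_mul, h4]; norm_num) fun p hp hpd => ?_, hr2⟩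
    have hp' : p = 2 := (Nat.prime_dvd_prime_iff_eq hp Nat.prime_two).1
      (hp.dvd_of_dvd_pow (n := 3) (by rw [show 2 ^ 3 = 8 by norm_num]; exact hpd))
    subst hp'
    rw [show 8 / 2 = 4 by norm_num, h4]
    exact fun e => h7 e.symm
  match c, hc with
  | 0, _ => exact c0 h
  | 1, _ => exact c1 h
  | 2, _ => exact c2 h
  | 3, _ =>
    change r ∣ q ^ 4 - q ^ 2 + 1 at h
    change orderOf y = 12 ∧ r ≠ 2
    have e0 : q ^ 2 ≤ q ^ 4 := Nat.pow_le_pow_right (by omega) (by norm_num)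
    have hr2 : r ≠ 2 := by
      rintro rfl
      omega
    have h4 : y ^ 4 - y ^ 2 + 1 = 0 := by
      have e1 := (ZMod.natCast_eq_zero_iff _ r).2 h
      rw [Nat.cast_add, Nat.cast_sub e0] at e1
      rw [hy]
      push_cast at e1
      exact e1
    have h6 : y ^ 6 = -1 := by linear_combination (y ^ 2 + 1) * h4
    have h7 : (1 : ZMod r) ≠ -1 := by
      intro e
      refine zmod_ne hr Nat.prime_two hr2 ?_
      push_cast
      linear_combination e
    refine ⟨orderOf_eq_of_pow_and_pow_div_prime (by norm_num)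
      (by rw [show (12 : ℕ) = 6 * 2 by norm_num, pow_mul, h6]; norm_num) fun p hp hpd => ?_, hr2⟩
    have hp' : p = 2 ∨ p = 3 := by
      rw [show (12 : ℕ) = 2 ^ 2 * 3 by norm_num, hp.dvd_mul] at hpd
      rcases hpd with hpd | hpd
      · exact Or.inl ((Nat.prime_dvd_prime_iff_eq hp Nat.prime_two).1 (hp.dvd_of_dvd_pow hpd))
      · exact Or.inr ((Nat.prime_dvd_prime_iff_eq hp Nat.prime_three).1 hpd)
    rcases hp' with rfl | rfl
    · rw [show 12 / 2 = 6 by norm_num, h6]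
      exact fun e => h7 e.symm
    · rw [show 12 / 3 = 4 by norm_num]
      intro e
      have e2 : y ^ 2 = 2 := by linear_combination e - h4
      have e3 : (3 : ZMod r) = 0 := by linear_combination e - (y ^ 2 + 2) * e2
      have e4 : r = 3 := by
        by_contra hcon
        exact zmod_ne hr Nat.prime_three hcon (by push_cast; exact e3)
      subst e4
      have e5 : (q ^ 2) % 3 ≠ 2 := by
        rw [Nat.pow_mod]
        have : q % 3 = 0 ∨ q % 3 = 1 ∨ q % 3 = 2 := by omega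
        rcases this with h | h | h <;> rw [h] <;> norm_num
      have e6 : ((q ^ 2 : ℕ) : ZMod 3) = ((2 : ℕ) : ZMod 3) := by
        push_cast
        rw [← hy]
        exact e2
      rw [ZMod.natCast_eq_natCast_iff'] at e6
      exact e5 (by rw [e6])
  | 4, _ => exact c1 h
  | 5, _ => exact c2 h

end Cfsg.Agent.R2.Spec.SD
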