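import Cfsg.Agent.R2.Spec.SD.SX

/-!
# Small ranks (helper10): the relation of the isolated numbers of `L`, with codes
-/

set_option autoImplicit false

namespace Cfsg.Agent.R2.Spec.SD

open Cfsg Cfsg.Agent.H426.LieFam Cfsg.Agent.R2.Spec Cfsg.Agent.R2.Spec.P1 Cfsg.Agent.R2.Spec.F1 Cfsg.Agent.R2.Spec.E

/-- the coefficients of the relation of `L` -/
def Lx (q c1 c2 g : ℕ) (a b c : ℤ) : Prop :=
  (a = 1 ∧ b = 1 ∧ |c| = 1 ∧ g = 2 ∧ ((c1 = 0 ∧ c2 = 1) ∨ (c1 = 1 ∧ c2 = 0))) ∨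
  (∃ s : ℤ, |c| * g = (q + s) ^ 2 ∧
    ((s = 1 ∧ ((c1 = 0 ∧ c2 = 2 ∧ a = q + s ∧ b = q) ∨ (c1 = 2 ∧ c2 = 0 ∧ a = q ∧ b = q + s))) ∨
    (s = -1 ∧ ((c1 = 1 ∧ c2 = 5 ∧ a = q + s ∧ b = q) ∨ (c1 = 5 ∧ c2 = 1 ∧ a = q ∧ b = q + s) ∨
      (g = 2 ∧ c1 = 3 ∧ c2 = 4 ∧ a = q + s ∧ b = q) ∨ (g = 2 ∧ c1 = 4 ∧ c2 = 3 ∧ a = q ∧ b = q + s)))))

/-- **The relation of the isolated numbers of `L`.** -/
theorem lkx {t : Fam} {q i j : ℕ} (ht : SDL t) (hq3 : 3 ≤ q) (hq2 : q % 2 = 1) (h : PairOK t i j) :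
    ∃ (c1 c2 g : ℕ) (a b c : ℤ), LNum q (dimL t) (dgL t q) (ttor t q i) (ttor t q j) a b c ∧
      LK t q i j a b c ∧ RowD t q i j c1 c2 g ∧ Lx q c1 c2 g a b c ∧
      (t = .ominus 6 → g = 2 ∧ ((c1 = 3 ∧ c2 = 4) ∨ (c1 = 4 ∧ c2 = 3))) ∧
      (t ≠ .ominus 6 → c1 ≠ 3 ∧ c1 ≠ 4) := by
  have hq1 : ((q - 1 : ℕ) : ℤ) = (q : ℤ) + -1 := by push_cast [Nat.cast_sub (show 1 ≤ q by omega)]; ring
  have g2 := gcd_two_odd hq2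
  have o5 : q ^ 5 % 2 = 1 := by rw [Nat.pow_mod, hq2]
  have o6 : q ^ 6 % 4 = 1 := by
    have : q % 4 = 1 ∨ q % 4 = 3 := by omega
    rw [Nat.pow_mod]
    rcases this with h | h <;> rw [h]
  rcases ht with rfl | rfl | rfl | rfl | rfl | rfl
  · obtain ⟨h1, h2⟩ := val_psp (n := 5) (q := q) (by norm_num) (by omega)
    rw [g2] at h1 h2
    have hL := lnum_psp (n := 5) (q := q) (by norm_num) hq3 hq2
    rcases h.2 with ⟨rfl, rfl⟩ | ⟨rfl, rfl⟩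
    · exact ⟨0, 1, 2, _, _, _, hL.symm, Or.inr (Or.inr ⟨show 5 % 2 = 1 from rfl, rfl, rfl, by norm_num⟩),
        ⟨by norm_num, by norm_num, Or.inl rfl, h2, h1, rfl, rfl, Or.inl ⟨rfl, rfl, Or.inl ⟨rfl, rfl⟩⟩⟩,
        Or.inl ⟨rfl, rfl, by norm_num, rfl, Or.inl ⟨rfl, rfl⟩⟩, fun h => Fam.noConfusion h, fun _ => by omega⟩
    · exact ⟨1, 0, 2, _, _, _, hL, Or.inr (Or.inr ⟨show 5 % 2 = 1 from rfl, rfl, rfl, by norm_num⟩),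
        ⟨by norm_num, by norm_num, Or.inl rfl, h1, h2, rfl, rfl, Or.inl ⟨rfl, rfl, Or.inr ⟨rfl, rfl⟩⟩⟩,
        Or.inl ⟨rfl, rfl, by norm_num, rfl, Or.inr ⟨rfl, rfl⟩⟩, fun h => Fam.noConfusion h, fun _ => by omega⟩
  · obtain ⟨h1, h2⟩ := val_psp (n := 5) (q := q) (by norm_num) (by omega)
    rw [g2] at h1 h2
    have hL := lnum_psp (n := 5) (q := q) (by norm_num) hq3 hq2
    rcases h.2 with ⟨rfl, rfl⟩ | ⟨rfl, rfl⟩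
    · exact ⟨0, 1, 2, _, _, _, hL.symm, Or.inr (Or.inr ⟨show 5 % 2 = 1 from rfl, rfl, rfl, by norm_num⟩),
        ⟨by norm_num, by norm_num, Or.inl rfl, by rw [ttor_oodd]; exact h2, by rw [ttor_oodd]; exact h1,
          rfl, rfl, Or.inl ⟨rfl, rfl, Or.inl ⟨rfl, rfl⟩⟩⟩,
        Or.inl ⟨rfl, rfl, by norm_num, rfl, Or.inl ⟨rfl, rfl⟩⟩, fun h => Fam.noConfusion h, fun _ => by omega⟩
    · exact ⟨1, 0, 2, _, _, _, hL, Or.inr (Or.inr ⟨show 5 % 2 = 1 from rfl, rfl, rfl, by norm_num⟩),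
        ⟨by norm_num, by norm_num, Or.inl rfl, by rw [ttor_oodd]; exact h1, by rw [ttor_oodd]; exact h2,
          rfl, rfl, Or.inl ⟨rfl, rfl, Or.inr ⟨rfl, rfl⟩⟩⟩,
        Or.inl ⟨rfl, rfl, by norm_num, rfl, Or.inr ⟨rfl, rfl⟩⟩, fun h => Fam.noConfusion h, fun _ => by omega⟩
  · obtain ⟨h1, h2⟩ := val_oplus_even (n := 6) (q := q) (by norm_num) (by norm_num) (by omega)
    rw [g2] at h1 h2
    have hL := lnum_oplus_even (n := 6) (q := q) (by norm_num) (by norm_num) hq3 hq2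
    have hd : dimL (.oplus 6) = 6 - 1 := by rw [dimL, if_pos (by norm_num)]
    rw [hd]
    rcases h with ⟨h0, -⟩ | ⟨-, ⟨rfl, rfl⟩ | ⟨rfl, rfl⟩⟩
    · omega
    · exact ⟨0, 1, 2, _, _, _, hL.symm, Or.inr (Or.inr ⟨show 6 % 2 = 0 from rfl, rfl, rfl, by norm_num⟩),
        ⟨by norm_num, by norm_num, Or.inl rfl, h2, h1, rfl, rfl, Or.inl ⟨rfl, rfl, Or.inl ⟨rfl, rfl⟩⟩⟩,
        Or.inl ⟨rfl, rfl, by norm_num, rfl, Or.inl ⟨rfl, rfl⟩⟩, fun h => Fam.noConfusion h, fun _ => by omega⟩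
    · exact ⟨1, 0, 2, _, _, _, hL, Or.inr (Or.inr ⟨show 6 % 2 = 0 from rfl, rfl, rfl, by norm_num⟩),
        ⟨by norm_num, by norm_num, Or.inl rfl, h1, h2, rfl, rfl, Or.inl ⟨rfl, rfl, Or.inr ⟨rfl, rfl⟩⟩⟩,
        Or.inl ⟨rfl, rfl, by norm_num, rfl, Or.inr ⟨rfl, rfl⟩⟩, fun h => Fam.noConfusion h, fun _ => by omega⟩
  · obtain ⟨h1, h2⟩ := val_oplus_odd (n := 5) (q := q) (by norm_num) (by norm_num) (by omega)
    have hg := gcd_four (x := q ^ 5 - 1) (by omega)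
    obtain ⟨e, he, hL⟩ := lnum_oplus_odd (n := 5) (q := q) (by norm_num) (by norm_num) hq3
    have hd : dimL (.oplus 5) = 5 := by rw [dimL, if_neg (by norm_num)]
    rw [hd]
    have he' : |(-(e : ℤ))| * (Nat.gcd 4 (q ^ 5 - 1) : ℕ) = ((q : ℤ) + 1) ^ 2 := by
      rw [abs_neg, Nat.abs_cast]
      exact_mod_cast he
    have hX : ((ttor (.oplus 5) q 5 : ℕ) : ℤ) * (Nat.gcd 4 (q ^ 5 - 1) : ℕ) = (q : ℤ) ^ 5 + -1 := by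
      rw [← sub_eq_add_neg, ← cast_pow_sub (by omega)]
      exact_mod_cast h1
    rcases h with ⟨-, ⟨rfl, rfl⟩ | ⟨rfl, rfl⟩⟩ | ⟨h0, -⟩
    · exact ⟨0, 2, _, _, _, _, hL, Or.inr (Or.inl ⟨5, _, 1, -1, _, Or.inl ⟨rfl, rfl, rfl, rfl⟩, hX, he',
        Or.inl ⟨rfl, rfl, rfl⟩⟩), ⟨by norm_num, by norm_num, hg, h1, h2, rfl, rfl,
        Or.inr (Or.inl ⟨rfl, Or.inl ⟨rfl, rfl⟩⟩)⟩, Or.inr ⟨1, he', Or.inl ⟨rfl, Or.inl ⟨rfl, rfl, rfl, rfl⟩⟩⟩,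
        fun h => Fam.noConfusion h, fun _ => by omega⟩
    · exact ⟨2, 0, _, _, _, _, hL.symm, Or.inr (Or.inl ⟨5, _, 1, -1, _, Or.inl ⟨rfl, rfl, rfl, rfl⟩, hX,
        by rw [abs_neg]; exact he', Or.inr ⟨rfl, rfl, rfl⟩⟩), ⟨by norm_num, by norm_num, hg, h2, h1, rfl, rfl,
        Or.inr (Or.inl ⟨rfl, Or.inr ⟨rfl, rfl⟩⟩)⟩,
        Or.inr ⟨1, by rw [abs_neg]; exact he', Or.inl ⟨rfl, Or.inr ⟨rfl, rfl, rfl, rfl⟩⟩⟩,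
        fun h => Fam.noConfusion h, fun _ => by omega⟩
    · omega
  · obtain ⟨h1, h2, -⟩ := val_ominus (n := 5) (q := q) (by norm_num) (by omega)
    have hg := gcd_four (x := q ^ 5 + 1) (by omega)
    obtain ⟨e, he, hL⟩ := lnum_ominus (n := 5) (q := q) (by norm_num) hq3
    have he' : |(-(e : ℤ))| * (Nat.gcd 4 (q ^ 5 + 1) : ℕ) = ((q : ℤ) + -1) ^ 2 := by
      rw [abs_neg, Nat.abs_cast, ← hq1]
      exact_mod_cast he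
    have hX : ((ttor (.ominus 5) q (2 * 5) : ℕ) : ℤ) * (Nat.gcd 4 (q ^ 5 + 1) : ℕ) = (q : ℤ) ^ 5 + 1 := by
      exact_mod_cast h1
    rcases h with ⟨rfl, rfl⟩ | ⟨rfl, rfl⟩
    · exact ⟨1, 5, _, _, _, _, hL, Or.inr (Or.inl ⟨5, _, -1, 1, _, Or.inr ⟨rfl, rfl, rfl⟩, hX, he',
        Or.inl ⟨rfl, by ring, rfl⟩⟩), ⟨by norm_num, by norm_num, hg, h1, h2, rfl, rfl,
        Or.inr (Or.inr (Or.inl ⟨rfl, Or.inl ⟨rfl, rfl⟩⟩))⟩,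
        Or.inr ⟨-1, he', Or.inr ⟨rfl, Or.inl ⟨rfl, rfl, by ring, rfl⟩⟩⟩,
        (fun h => by cases h), fun _ => by omega⟩
    · exact ⟨5, 1, _, _, _, _, hL.symm, Or.inr (Or.inl ⟨5, _, -1, 1, _, Or.inr ⟨rfl, rfl, rfl⟩, hX,
        by rw [abs_neg]; exact he', Or.inr ⟨rfl, rfl, by ring⟩⟩), ⟨by norm_num, by norm_num, hg, h2, h1, rfl, rfl,
        Or.inr (Or.inr (Or.inl ⟨rfl, Or.inr ⟨rfl, rfl⟩⟩))⟩,
        Or.inr ⟨-1, by rw [abs_neg]; exact he', Or.inr ⟨rfl, Or.inr (Or.inl ⟨rfl, rfl, rfl, by ring⟩)⟩⟩,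
        (fun h => by cases h), fun _ => by omega⟩
  · obtain ⟨h1, h2, -⟩ := val_ominus (n := 6) (q := q) (by norm_num) (by omega)
    have hg : Nat.gcd 4 (q ^ 6 + 1) = 2 := by
      rcases gcd_four (x := q ^ 6 + 1) (by omega) with h | h
      · exact h
      · exfalso
        have := Nat.gcd_dvd_right 4 (q ^ 6 + 1)
        rw [h] at this
        omega
    obtain ⟨e, he, hL⟩ := lnum_ominus (n := 6) (q := q) (by norm_num) hq3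
    rw [hg] at h1 h2 he
    have he' : |(-(e : ℤ))| * (2 : ℕ) = ((q : ℤ) + -1) ^ 2 := by
      rw [abs_neg, Nat.abs_cast, ← hq1]
      exact_mod_cast he
    have hX : ((ttor (.ominus 6) q (2 * 6) : ℕ) : ℤ) * (2 : ℕ) = (q : ℤ) ^ 6 + 1 := by
      exact_mod_cast h1
    rcases h with ⟨rfl, rfl⟩ | ⟨rfl, rfl⟩
    · exact ⟨3, 4, 2, _, _, _, hL, Or.inr (Or.inl ⟨6, _, -1, 1, _, Or.inr ⟨rfl, rfl, rfl⟩, hX, he',
        Or.inl ⟨rfl, by ring, rfl⟩⟩), ⟨by norm_num, by norm_num, Or.inl rfl, h1, h2, rfl, rfl,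
        Or.inr (Or.inr (Or.inr ⟨rfl, rfl, Or.inl ⟨rfl, rfl⟩⟩))⟩,
        Or.inr ⟨-1, he', Or.inr ⟨rfl, Or.inr (Or.inr (Or.inl ⟨rfl, rfl, rfl, by ring, rfl⟩))⟩⟩,
        fun h => ⟨rfl, Or.inl ⟨rfl, rfl⟩⟩, fun h => absurd rfl h⟩
    · exact ⟨4, 3, 2, _, _, _, hL.symm, Or.inr (Or.inl ⟨6, _, -1, 1, _, Or.inr ⟨rfl, rfl, rfl⟩, hX,
        by rw [abs_neg]; exact he', Or.inr ⟨rfl, rfl, by ring⟩⟩), ⟨by norm_num, by norm_num, Or.inl rfl, h2, h1, rfl, rfl,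
        Or.inr (Or.inr (Or.inr ⟨rfl, rfl, Or.inr ⟨rfl, rfl⟩⟩))⟩,
        Or.inr ⟨-1, by rw [abs_neg]; exact he', Or.inr ⟨rfl, Or.inr (Or.inr (Or.inr ⟨rfl, rfl, rfl, rfl, by ring⟩))⟩⟩,
        fun h => ⟨rfl, Or.inr ⟨rfl, rfl⟩⟩, fun h => absurd rfl h⟩

/-- the primitive part is prime to `q ^ 2 - 1` -/
theorem KF_cop {c q : ℕ} (hc : c ≤ 5) (hq3 : 3 ≤ q) (hq2 : q % 2 = 1) {s : ℤ} (hs : s = 1 ∨ s = -1) :
    IsCoprime ((KF c q : ℕ) : ℤ) ((q : ℤ) + s) := by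
  have h1 : ∃ x : ℕ, (q : ℤ) + s = x ∧ (x = q + 1 ∨ x + 1 = q) := by
    rcases hs with rfl | rfl
    · exact ⟨q + 1, by push_cast; ring, Or.inl rfl⟩
    · exact ⟨q - 1, by push_cast [Nat.cast_sub (show 1 ≤ q by omega)]; ring, Or.inr (by omega)⟩
  obtain ⟨x, hx, hx'⟩ := h1
  rw [hx, Nat.isCoprime_iff_coprime]
  refine Nat.coprime_of_dvd fun r hr hd hd2 => ?_
  have hfr := Fact.mk hr
  obtain ⟨h2, -⟩ := ord_of_K hc hq3 hq2 hr hd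
  have h3 : ((q : ℕ) : ZMod r) ^ 2 = 1 := by
    have h4 := (ZMod.natCast_eq_zero_iff x r).2 hd2
    rcases hx' with rfl | h5
    · push_cast at h4
      linear_combination (((q : ℕ) : ZMod r) - 1) * h4
    · rw [← h5]
      push_cast
      linear_combination ((x : ZMod r) + 2) * h4
  have h5 := orderOf_dvd_of_pow_eq_one h3
  rw [h2] at h5
  have h6 := Nat.le_of_dvd (by norm_num) h5
  have h7 : 5 ≤ IF c := by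
    match c, hc with
    | 0, _ => exact le_rfl
    | 1, _ => decide
    | 2, _ => decide
    | 3, _ => decide
    | 4, _ => decide
    | 5, _ => decide
  omega

/-- the size of the primitive part -/
theorem KF_low {c q : ℕ} (hc : c ≤ 5) (hq3 : 3 ≤ q) (hq2 : q % 2 = 1) :
    (q : ℤ) ^ 3 * (q - 1) ≤ 5 * (KF c q : ℕ) ∧ (c = 2 ∨ c = 5 → (q : ℤ) ^ 3 * (q - 1) ≤ 2 * (KF c q : ℕ)) ∧
      (c = 3 → (q : ℤ) ^ 3 * (q - 1) ≤ (KF c q : ℕ)) := by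
  have hq' : (3 : ℤ) ≤ q := by exact_mod_cast hq3
  obtain ⟨h0, -⟩ := k5_spec (q := q) (by omega)
  obtain ⟨h1, -⟩ := k10_spec (q := q) (by omega)
  have h2 : (q ^ 4 + 1) / 2 * 2 = q ^ 4 + 1 := by
    refine Nat.div_mul_cancel ?_
    have : q ^ 4 % 2 = 1 := by rw [Nat.pow_mod, hq2]
    omega
  have g0 : Nat.gcd 5 (q - 1) ≤ 5 := Nat.le_of_dvd (by norm_num) (Nat.gcd_dvd_left _ _)
  have g1 : Nat.gcd 5 (q + 1) ≤ 5 := Nat.le_of_dvd (by norm_num) (Nat.gcd_dvd_left _ _)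
  have k0 : (q : ℤ) ^ 4 ≤ 5 * (KK 0 q : ℕ) := by
    have e : q ^ 4 ≤ 5 * KK 0 q := by nlinarith [Nat.zero_le (KK 0 q)]
    exact_mod_cast e
  have k1 : (q : ℤ) ^ 4 - q ^ 3 ≤ 5 * (KK 1 q : ℕ) := by
    have e : (((q ^ 4 - q ^ 3 + q ^ 2 - q + 1 : ℕ)) : ℤ) ≤ 5 * (KK 1 q : ℕ) := by
      rw [← h1]
      push_cast
      have : ((Nat.gcd 5 (q + 1) : ℕ) : ℤ) ≤ 5 := by exact_mod_cast g1
      nlinarith [Int.natCast_nonneg (KK 1 q)]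
    rw [phi10_nat (by omega)] at e
    nlinarith
  have k2 : (q : ℤ) ^ 4 ≤ 2 * ((q ^ 4 + 1) / 2 : ℕ) := by
    have e : q ^ 4 ≤ 2 * ((q ^ 4 + 1) / 2) := by omega
    exact_mod_cast e
  have hq3' : 0 < (q : ℤ) ^ 3 := by positivity
  have hq4 : (q : ℤ) ^ 3 * (q - 1) = q ^ 4 - q ^ 3 := by ring
  rw [hq4]
  match c, hc with
  | 0, _ =>
    change _ ≤ 5 * ((KK 0 q : ℕ) : ℤ) ∧ _
    exact ⟨by omega, fun h => by omega, fun h => by omega⟩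
  | 1, _ =>
    change _ ≤ 5 * ((KK 1 q : ℕ) : ℤ) ∧ _
    exact ⟨by omega, fun h => by omega, fun h => by omega⟩
  | 2, _ =>
    change _ ≤ 5 * (((q ^ 4 + 1) / 2 : ℕ) : ℤ) ∧ (_ → _ ≤ 2 * (((q ^ 4 + 1) / 2 : ℕ) : ℤ)) ∧ _
    exact ⟨by omega, fun h => by omega, fun h => by omega⟩
  | 3, _ =>
    have e0 : q ^ 2 ≤ q ^ 4 := Nat.pow_le_pow_right (by omega) (by norm_num)
    have e1 : ((q ^ 4 - q ^ 2 + 1 : ℕ) : ℤ) = (q : ℤ) ^ 4 - q ^ 2 + 1 := by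
      push_cast [Nat.cast_sub e0]
      ring
    change _ ≤ 5 * ((q ^ 4 - q ^ 2 + 1 : ℕ) : ℤ) ∧ _ ∧ (_ → _ ≤ ((q ^ 4 - q ^ 2 + 1 : ℕ) : ℤ))
    rw [e1]
    have e2 : (q : ℤ) ^ 2 ≤ q ^ 3 := by nlinarith
    have e3 : (0 : ℤ) ≤ q ^ 4 - q ^ 3 := by nlinarith
    exact ⟨by linarith, fun h => by omega, fun _ => by linarith⟩
  | 4, _ =>
    change _ ≤ 5 * ((KK 1 q : ℕ) : ℤ) ∧ _
    exact ⟨by omega, fun h => by omega, fun h => by omega⟩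
  | 5, _ =>
    change _ ≤ 5 * (((q ^ 4 + 1) / 2 : ℕ) : ℤ) ∧ (_ → _ ≤ 2 * (((q ^ 4 + 1) / 2 : ℕ) : ℤ)) ∧ _
    exact ⟨by omega, fun h => by omega, fun h => by omega⟩

end Cfsg.Agent.R2.Spec.SD
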