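import Cfsg.Agent.R2.Spec.SD.Row
import Cfsg.Agent.R2.Spec.E.NonD
import Cfsg.Agent.R2.Spec.FIN.Three

/-!
# Small ranks, the packets `NON-C`, `NON-D` (helper7)

* `sizeC`, `sizeD` : the size bounds, also for `S = PSp_6(u)`, `Omega_7(u)`, `POmega^+_8(u)`;
* `Duel.sd_non` : `SDL t`, `S` symplectic or orthogonal, `w` not isolated in `S` : `FamII t` and `u = 2` or `u = 3`.
-/

set_option autoImplicit false

namespace Cfsg.Agent.R2.Spec.SD

open Cfsg Cfsg.Agent.H426.LieFam Cfsg.Agent.R2.Spec Cfsg.Agent.R2.Spec.P1 Cfsg.Agent.R2.Spec.F1 Cfsg.Agent.R2.Spec.E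

section

variable {t : Fam} {p f i j : ℕ} {t' : Fam} {v f' i' j' w H : ℕ} {S : Type} [Group S] [Finite S]

/-- the size bound of `NON-C`, rank three included -/
theorem sizeC (hr : 4 ≤ rk t) {m : ℕ} (ht : t' = .psp m ∨ t' = .oodd m) (hm : 3 ≤ m) (hj : ¬ top t' j')
    (h : Duel t p f i j t' v f' i' j' w H S) : SizeB 872 t p f f' ∨ (FamII t ∧ (v ^ f' = 2 ∨ v ^ f' = 3)) := by
  have hj3 := h.j'3
  have hk1 := one_le_eta (k := j') (by omega)
  have hu := h.u_two
  -- the class `j'`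
  have hmem : eta j' ≤ m := by
    have := h.memj'
    rcases ht with rfl | rfl
    · exact this
    · exact this
  have htop : ¬ (j' = 2 * m ∨ (j' = m ∧ m % 2 = 1)) := by
    intro h1
    apply hj
    rcases ht with rfl | rfl
    · exact h1
    · exact h1
  have hkm : eta j' + 1 ≤ m ∧ 2 ≤ eta j' := by
    rcases eta_cases j' with ⟨h5, h6⟩ | ⟨h5, h6⟩
    · rw [Nat.odd_iff] at h5
      constructor
      · by_contra hlt
        exact htop (Or.inr (by omega))
      · omega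
    · rw [Nat.even_iff] at h5
      constructor
      · by_contra hlt
        exact htop (Or.inl (by omega))
      · omega
  obtain ⟨e, he⟩ : ∃ e, m = eta j' + e := ⟨m - eta j', by omega⟩
  by_cases hII : FamII t ∧ (v ^ f' = 2 ∨ v ^ f' = 3)
  · exact Or.inr hII
  left
  obtain ⟨a, b, c, hL, hL2⟩ := lnum' h.p_prime h.p_ne h.f_pos hr h.pair
  -- the number `P`
  obtain ⟨g, hg⟩ : ∃ g, g = Nat.gcd 2 (v ^ f' - 1) := ⟨_, rfl⟩
  have hg' : (g = 1 ∧ (v ^ f') % 2 = 0) ∨ (g = 2 ∧ (v ^ f') % 2 = 1) := by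
    rcases Nat.mod_two_eq_zero_or_one (v ^ f') with h1 | h1
    · left; exact ⟨by rw [hg, gcd_two_even hu h1], h1⟩
    · right; exact ⟨by rw [hg, gcd_two_odd h1], h1⟩
  obtain ⟨em, hem, hP⟩ : ∃ em : ℤ, (em = 1 ∨ em = -1) ∧
      (g : ℤ) * (ttor t' (v ^ f') i' : ℕ) = ((v ^ f' : ℕ) : ℤ) ^ (eta j' + e) - em := by
    obtain ⟨h1, h2⟩ := val_psp (n := m) (q := v ^ f') (by omega) hu
    rw [← hg] at h1 h2
    have h3 := Nat.one_le_pow m (v ^ f') (by omega)
    have htt : ttor t' (v ^ f') i' = ttor (.psp m) (v ^ f') i' := by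
      rcases ht with rfl | rfl <;> rfl
    have htop' : i' = 2 * m ∨ (i' = m ∧ m % 2 = 1) := by
      have := h.topi'
      rcases ht with rfl | rfl
      · exact this
      · exact this
    rw [htt, ← he]
    rcases htop' with h4 | ⟨h4, -⟩
    · refine ⟨-1, Or.inr rfl, ?_⟩
      rw [h4, sub_neg_eq_add]
      have : g * ttor (.psp m) (v ^ f') (2 * m) = (v ^ f') ^ m + 1 := by rw [mul_comm]; exact h1
      exact_mod_cast this
    · refine ⟨1, Or.inl rfl, ?_⟩
      rw [h4]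
      have h5 : g * ttor (.psp m) (v ^ f') m + 1 = (v ^ f') ^ m := by rw [mul_comm g]; omega
      have h6 : ((g : ℤ) * (ttor (.psp m) (v ^ f') m : ℕ)) + 1 = ((v ^ f' : ℕ) : ℤ) ^ m := by exact_mod_cast h5
      omega
  refine nonC_num (k := eta j') (e := e) (u := v ^ f') (ε := sgn' j') (em := em) (H := H)
    (N := ttor t (p ^ f) j) (M := ttor t (p ^ f) i) (P := ttor t' (v ^ f') i')
    h.p_prime h.p_ne rfl h.f_pos (dimL_pos hr h.pair) hL ?_ hu ?_ hg' h.eqM hP hem hkm.2 (by omega) ?_ ?_ ?_ ?_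
  · intro h1
    obtain ⟨h2, h3, -⟩ := hL2 h1
    refine ⟨?_, h3⟩
    by_contra hlt
    exact hII ⟨h2, by omega⟩
  · intro h1
    exact h.ndu h.p_prime (fun h2 => h.vp h2.symm) h1
  · rcases Nat.mod_two_eq_zero_or_one j' with h3 | h3
    · right; rw [sgn', if_neg (by omega)]
    · left
      refine ⟨by rw [sgn', if_pos h3], ?_⟩
      rw [eta, if_neg (by omega), Nat.odd_iff]
      exact h3
  · have h1 := (h.blkN ht (b := e) (by omega) (by omega) (δ' := 1) (Or.inl rfl) hg').1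
    rw [← cast_AN (sgn'_pm j') (by omega)]
    exact_mod_cast h1
  · intro s hs
    have h1 := (h.blkN ht (b := e) (by omega) (by omega) hs hg').2
    rw [← cast_AN hs (by omega)]
    exact_mod_cast h1
  · exact Nat.le_of_dvd h.f'_pos (h.H_dvd_f ht hj (by omega))

/-- the size bound of `NON-D`, `POmega^+_8` included -/
theorem sizeD (hr : 4 ≤ rk t) {m : ℕ} (ht : t' = .oplus m ∨ t' = .ominus m) (hm : 4 ≤ m) (hj : ¬ top t' j')
    (h : Duel t p f i j t' v f' i' j' w H S) : SizeB 848 t p f f' ∨ (FamII t ∧ (v ^ f' = 2 ∨ v ^ f' = 3)) := by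
  rcases h.nonD_H ht hm hr hj with h1 | h1
  swap
  · exact Or.inr h1
  left
  obtain ⟨hk2, hkm, hε⟩ := h.etaD ht hm hj
  obtain ⟨a, b, c, hL, hL2⟩ := lnum' h.p_prime h.p_ne h.f_pos hr h.pair
  have hdat := ndat_of h.p_prime h.p_ne rfl h.f_pos hL
  refine hdat.size (F := f') (h1.trans (Nat.mul_le_mul_left _ (Nat.mul_le_mul_right _ ?_)))
  exact Nat.pow_le_pow_left (Nat.le_of_dvd h.f'_pos (h.H_dvd_fD ht hj hkm)) 4

theorem SDL.smallD (h : SDL t) : FIN.SmallD t := by
  rcases h with rfl | rfl | rfl | rfl | rfl | rfl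
  · exact rfl
  · exact rfl
  · exact Or.inr rfl
  · exact Or.inl rfl
  · exact Or.inl rfl
  · exact Or.inr rfl

theorem SDL.rk4c (h : SDL t) : 4 ≤ rk t := by
  rcases h with rfl | rfl | rfl | rfl | rfl | rfl
  · change 4 ≤ 5; norm_num
  · change 4 ≤ 5; norm_num
  · change 4 ≤ 6; norm_num
  · change 4 ≤ 5; norm_num
  · change 4 ≤ 5; norm_num
  · change 4 ≤ 6; norm_num

/-- **`S` symplectic or orthogonal, `w` not isolated in `S`.** -/
theorem Duel.sd_nonC (h : Duel t p f i j t' v f' i' j' w H S) (hsd : SDL t) {m : ℕ}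
    (ht : t' = .psp m ∨ t' = .oodd m) (hm : 3 ≤ m) (hj : ¬ top t' j') : FamII t ∧ (v ^ f' = 2 ∨ v ^ f' = 3) := by
  rcases sizeC hsd.rk4c ht hm hj h with hs | hs
  swap
  · exact hs
  exfalso
  have hs' : SizeB (2 ^ 10) t p f f' := le_trans hs (Nat.mul_le_mul_right _ (Nat.mul_le_mul_right _ (by norm_num)))
  by_cases h3 : m = 3
  · refine FIN.fin_three hsd.smallD h ?_ hs'
    rcases ht with rfl | rfl
    · exact Or.inl (by rw [h3])
    · exact Or.inr (Or.inl (by rw [h3]))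
  · refine FIN.fin_small hsd.smallD h ?_ hs'
    rcases ht with rfl | rfl
    · change 4 ≤ m; omega
    · change 4 ≤ m; omega

/-- **`S` orthogonal of even dimension, `w` not isolated in `S`.** -/
theorem Duel.sd_nonD (h : Duel t p f i j t' v f' i' j' w H S) (hsd : SDL t) {m : ℕ}
    (ht : t' = .oplus m ∨ t' = .ominus m) (hm : 4 ≤ m) (hj : ¬ top t' j') :
    FamII t ∧ (v ^ f' = 2 ∨ v ^ f' = 3) := by
  rcases sizeD hsd.rk4c ht hm hj h with hs | hs
  swap
  · exact hs
  exfalso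
  have hs' : SizeB (2 ^ 10) t p f f' := le_trans hs (Nat.mul_le_mul_right _ (Nat.mul_le_mul_right _ (by norm_num)))
  rcases ht with rfl | rfl
  · by_cases h4 : m = 4
    · exact FIN.fin_three hsd.smallD h (Or.inr (Or.inr (by rw [h4]))) hs'
    · refine FIN.fin_small hsd.smallD h ?_ hs'
      change 5 ≤ m; omega
  · refine FIN.fin_small hsd.smallD h ?_ hs'
    change 4 ≤ m; omega

/-- **`w` not isolated in `S`, `S` not linear.** -/
theorem Duel.sd_non (h : Duel t p f i j t' v f' i' j' w H S) (hsd : SDL t) (hr : RkS t')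
    (hl : ¬ ∃ m, t' = .psl m ∨ t' = .psu m) (hj : ¬ top t' j') : FamII t ∧ (v ^ f' = 2 ∨ v ^ f' = 3) := by
  cases t' with
  | psl n => exact (hl ⟨n, Or.inl rfl⟩).elim
  | psu n => exact (hl ⟨n, Or.inr rfl⟩).elim
  | psp n =>
    refine Duel.sd_nonC h hsd (Or.inl rfl) ?_ hj
    rcases hr with h1 | h1 | h1
    · exact le_trans (by norm_num) (show 4 ≤ n from h1)
    · cases h1; exact le_refl 3
    · cases h1
  | oodd n =>
    refine Duel.sd_nonC h hsd (Or.inr rfl) ?_ hj
    rcases hr with h1 | h1 | h1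
    · exact le_trans (by norm_num) (show 4 ≤ n from h1)
    · cases h1
    · cases h1; exact le_refl 3
  | oplus n =>
    refine Duel.sd_nonD h hsd (Or.inl rfl) ?_ hj
    rcases hr with h1 | h1 | h1
    · exact h1
    · cases h1
    · cases h1
  | ominus n =>
    refine Duel.sd_nonD h hsd (Or.inr rfl) ?_ hj
    rcases hr with h1 | h1 | h1
    · exact h1
    · cases h1
    · cases h1
  | _ =>
    exfalso
    have h1 := h.topi'
    exact h1.elim

end

end Cfsg.Agent.R2.Spec.SD
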