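import Cfsg.Agent.R2.Spec.SD.LSide

/-!
# Small ranks (helper10): the rows of `L`
-/

set_option autoImplicit false

namespace Cfsg.Agent.R2.Spec.SD

open Cfsg Cfsg.Agent.H426.LieFam Cfsg.Agent.R2.Spec Cfsg.Agent.R2.Spec.P1 Cfsg.Agent.R2.Spec.F1 Cfsg.Agent.R2.Spec.E

/-- the groups `L` of small rank -/
def SDL (t : Fam) : Prop :=
  t = .psp 5 ∨ t = .oodd 5 ∨ t = .oplus 6 ∨ t = .oplus 5 ∨ t = .ominus 5 ∨ t = .ominus 6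

/-- the cofactor of the primitive part -/
def RR (c q : ℕ) : ℕ :=
  match c with
  | 0 => (q - 1) * Nat.gcd 5 (q - 1)
  | 1 => (q + 1) * Nat.gcd 5 (q + 1)
  | 2 => 2 * (q + 1)
  | 3 => q ^ 2 + 1
  | 4 => (q ^ 2 - 1) * Nat.gcd 5 (q + 1)
  | _ => 2 * (q - 1)

theorem FF_eq {c q : ℕ} (hc : c ≤ 5) (hq : 3 ≤ q) (hq2 : q % 2 = 1) : FF c q = KF c q * RR c q := by
  obtain ⟨h0, -⟩ := k5_spec (q := q) (by omega)
  obtain ⟨h1, -⟩ := k10_spec (q := q) (by omega)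
  have h2 : (q ^ 4 + 1) / 2 * 2 = q ^ 4 + 1 := by
    refine Nat.div_mul_cancel ?_
    have : q ^ 4 % 2 = 1 := by rw [Nat.pow_mod, hq2]
    omega
  have hq1 : ((q - 1 : ℕ) : ℤ) = q - 1 := by push_cast [Nat.cast_sub (show 1 ≤ q by omega)]; ring
  have hp := Nat.one_le_pow 5 q (by omega)
  have hp2 := Nat.one_le_pow 2 q (by omega)
  have h10 := phi10_nat (q := q) (by omega)
  rw [Nat.cast_add, Nat.cast_one] at h10
  match c, hc with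
  | 0, _ =>
    change q ^ 5 - 1 = KK 0 q * ((q - 1) * Nat.gcd 5 (q - 1))
    rw [mul_comm (q - 1), ← mul_assoc, h0]
    zify [hp]
    rw [hq1]
    ring
  | 1, _ =>
    change q ^ 5 + 1 = KK 1 q * ((q + 1) * Nat.gcd 5 (q + 1))
    rw [mul_comm (q + 1), ← mul_assoc, h1]
    zify
    rw [h10]
    ring
  | 2, _ =>
    change (q ^ 4 + 1) * (q + 1) = (q ^ 4 + 1) / 2 * (2 * (q + 1))
    rw [← mul_assoc, h2]
  | 3, _ =>
    change q ^ 6 + 1 = (q ^ 4 - q ^ 2 + 1) * (q ^ 2 + 1)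
    have e0 : q ^ 2 ≤ q ^ 4 := Nat.pow_le_pow_right (by omega) (by norm_num)
    zify [e0]
    ring
  | 4, _ =>
    change (q ^ 5 + 1) * (q - 1) = KK 1 q * ((q ^ 2 - 1) * Nat.gcd 5 (q + 1))
    rw [mul_comm (q ^ 2 - 1), ← mul_assoc, h1]
    zify [hp2]
    rw [hq1, h10]
    ring
  | 5, _ =>
    change (q ^ 4 + 1) * (q - 1) = (q ^ 4 + 1) / 2 * (2 * (q - 1))
    rw [← mul_assoc, h2]

/-- the primitive part is odd -/
theorem KF_odd {c q : ℕ} (hc : c ≤ 5) (hq : 3 ≤ q) (hq2 : q % 2 = 1) : Nat.Coprime (KF c q) 2 := by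
  rw [Nat.coprime_comm, Nat.Prime.coprime_iff_not_dvd Nat.prime_two]
  intro hd
  exact (ord_of_K hc hq hq2 Nat.prime_two hd).2 rfl

theorem KF_four {c q g : ℕ} (hc : c ≤ 5) (hq : 3 ≤ q) (hq2 : q % 2 = 1) (hg : g = 2 ∨ g = 4) :
    Nat.Coprime (KF c q) g := by
  rcases hg with rfl | rfl
  · exact KF_odd hc hq hq2
  · exact Nat.Coprime.mul_right (KF_odd hc hq hq2) (KF_odd hc hq hq2)

/-- the rows -/
structure RowD (t : Fam) (q i j c c' g : ℕ) : Prop where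
  hc : c ≤ 5
  hc' : c' ≤ 5
  hg : g = 2 ∨ g = 4
  eqi : ttor t q i * g = FF c q
  eqj : ttor t q j * g = FF c' q
  ii : i = IF c
  jj : j = IF c'
  typ : (FamII t ∧ g = 2 ∧ ((c = 0 ∧ c' = 1) ∨ (c = 1 ∧ c' = 0))) ∨
    (t = .oplus 5 ∧ ((c = 0 ∧ c' = 2) ∨ (c = 2 ∧ c' = 0))) ∨
    (t = .ominus 5 ∧ ((c = 1 ∧ c' = 5) ∨ (c = 5 ∧ c' = 1))) ∨
    (t = .ominus 6 ∧ g = 2 ∧ ((c = 3 ∧ c' = 4) ∨ (c = 4 ∧ c' = 3)))

theorem gcd_four {x : ℕ} (hx : 2 ∣ x) : Nat.gcd 4 x = 2 ∨ Nat.gcd 4 x = 4 := by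
  have h1 : Nat.gcd 4 x ∣ 2 ^ 2 := Nat.gcd_dvd_left 4 x
  obtain ⟨k, hk, h2⟩ := (Nat.dvd_prime_pow Nat.prime_two).1 h1
  have h3 : 2 ∣ Nat.gcd 4 x := Nat.dvd_gcd (by norm_num) hx
  have hk3 : k = 0 ∨ k = 1 ∨ k = 2 := by omega
  rcases hk3 with rfl | rfl | rfl
  · rw [h2] at h3
    omega
  · exact Or.inl h2
  · exact Or.inr h2

/-- **The rows.** -/
theorem row {t : Fam} {q i j : ℕ} (ht : SDL t) (hq : 3 ≤ q) (hq2 : q % 2 = 1) (h : PairOK t i j) :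
    ∃ c c' g : ℕ, RowD t q i j c c' g := by
  have g2 := gcd_two_odd hq2
  have o5 : q ^ 5 % 2 = 1 := by rw [Nat.pow_mod, hq2]
  have o6 : q ^ 6 % 4 = 1 := by
    have : q % 4 = 1 ∨ q % 4 = 3 := by omega
    rw [Nat.pow_mod]
    rcases this with h | h <;> rw [h]
  rcases ht with rfl | rfl | rfl | rfl | rfl | rfl
  · obtain ⟨h1, h2⟩ := val_psp (n := 5) (q := q) (by norm_num) (by omega)
    rw [g2] at h1 h2
    rcases h.2 with ⟨rfl, rfl⟩ | ⟨rfl, rfl⟩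
    · exact ⟨0, 1, 2, ⟨by norm_num, by norm_num, Or.inl rfl, h2, h1, rfl, rfl, Or.inl ⟨rfl, rfl, Or.inl ⟨rfl, rfl⟩⟩⟩⟩
    · exact ⟨1, 0, 2, ⟨by norm_num, by norm_num, Or.inl rfl, h1, h2, rfl, rfl, Or.inl ⟨rfl, rfl, Or.inr ⟨rfl, rfl⟩⟩⟩⟩
  · obtain ⟨h1, h2⟩ := val_psp (n := 5) (q := q) (by norm_num) (by omega)
    rw [g2] at h1 h2
    rcases h.2 with ⟨rfl, rfl⟩ | ⟨rfl, rfl⟩
    · exact ⟨0, 1, 2, ⟨by norm_num, by norm_num, Or.inl rfl, by rw [ttor_oodd]; exact h2, by rw [ttor_oodd]; exact h1,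
        rfl, rfl, Or.inl ⟨rfl, rfl, Or.inl ⟨rfl, rfl⟩⟩⟩⟩
    · exact ⟨1, 0, 2, ⟨by norm_num, by norm_num, Or.inl rfl, by rw [ttor_oodd]; exact h1, by rw [ttor_oodd]; exact h2,
        rfl, rfl, Or.inl ⟨rfl, rfl, Or.inr ⟨rfl, rfl⟩⟩⟩⟩
  · obtain ⟨h1, h2⟩ := val_oplus_even (n := 6) (q := q) (by norm_num) (by norm_num) (by omega)
    rw [g2] at h1 h2
    rcases h with ⟨h0, -⟩ | ⟨-, ⟨rfl, rfl⟩ | ⟨rfl, rfl⟩⟩
    · omega
    · exact ⟨0, 1, 2, ⟨by norm_num, by norm_num, Or.inl rfl, h2, h1, rfl, rfl, Or.inl ⟨rfl, rfl, Or.inl ⟨rfl, rfl⟩⟩⟩⟩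
    · exact ⟨1, 0, 2, ⟨by norm_num, by norm_num, Or.inl rfl, h1, h2, rfl, rfl, Or.inl ⟨rfl, rfl, Or.inr ⟨rfl, rfl⟩⟩⟩⟩
  · obtain ⟨h1, h2⟩ := val_oplus_odd (n := 5) (q := q) (by norm_num) (by norm_num) (by omega)
    have hg := gcd_four (x := q ^ 5 - 1) (by omega)
    rcases h with ⟨-, ⟨rfl, rfl⟩ | ⟨rfl, rfl⟩⟩ | ⟨h0, -⟩
    · exact ⟨0, 2, _, ⟨by norm_num, by norm_num, hg, h1, h2, rfl, rfl,
        Or.inr (Or.inl ⟨rfl, Or.inl ⟨rfl, rfl⟩⟩)⟩⟩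
    · exact ⟨2, 0, _, ⟨by norm_num, by norm_num, hg, h2, h1, rfl, rfl,
        Or.inr (Or.inl ⟨rfl, Or.inr ⟨rfl, rfl⟩⟩)⟩⟩
    · omega
  · obtain ⟨h1, h2, -⟩ := val_ominus (n := 5) (q := q) (by norm_num) (by omega)
    have hg := gcd_four (x := q ^ 5 + 1) (by omega)
    rcases h with ⟨rfl, rfl⟩ | ⟨rfl, rfl⟩
    · exact ⟨1, 5, _, ⟨by norm_num, by norm_num, hg, h1, h2, rfl, rfl,
        Or.inr (Or.inr (Or.inl ⟨rfl, Or.inl ⟨rfl, rfl⟩⟩))⟩⟩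
    · exact ⟨5, 1, _, ⟨by norm_num, by norm_num, hg, h2, h1, rfl, rfl,
        Or.inr (Or.inr (Or.inl ⟨rfl, Or.inr ⟨rfl, rfl⟩⟩))⟩⟩
  · obtain ⟨h1, h2, -⟩ := val_ominus (n := 6) (q := q) (by norm_num) (by omega)
    have hg : Nat.gcd 4 (q ^ 6 + 1) = 2 := by
      rcases gcd_four (x := q ^ 6 + 1) (by omega) with h | h
      · exact h
      · exfalso
        have := Nat.gcd_dvd_right 4 (q ^ 6 + 1)
        rw [h] at this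
        omega
    rw [hg] at h1 h2
    rcases h with ⟨rfl, rfl⟩ | ⟨rfl, rfl⟩
    · exact ⟨3, 4, 2, ⟨by norm_num, by norm_num, Or.inl rfl, h1, h2, rfl, rfl,
        Or.inr (Or.inr (Or.inr ⟨rfl, rfl, Or.inl ⟨rfl, rfl⟩⟩))⟩⟩
    · exact ⟨4, 3, 2, ⟨by norm_num, by norm_num, Or.inl rfl, h2, h1, rfl, rfl,
        Or.inr (Or.inr (Or.inr ⟨rfl, rfl, Or.inr ⟨rfl, rfl⟩⟩))⟩⟩

/-- the common part of the `Duel` and of its irregular alternative -/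
structure Base (t : Fam) (p f i j : ℕ) (t' : Fam) (v f' i' H : ℕ) : Prop where
  p_prime : p.Prime
  p_ne : p ≠ 2
  f_pos : 1 ≤ f
  sd : SDL t
  pair : PairOK t i j
  v_prime : v.Prime
  vp : v ≠ p
  f'_pos : 1 ≤ f'
  rk3 : RkS t'
  five : (t = .psp 5 ∨ t = .oodd 5 ∨ t = .ominus 6) → RkFive t'
  topi' : top t' i'
  eqM : ttor t (p ^ f) i = H * ttor t' (v ^ f') i'
  copH : ∀ r : ℕ, r.Prime → cls t (p ^ f) r = i → ¬ r ∣ H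

theorem SDL.ne_psu {t : Fam} (h : SDL t) : ∀ n, t ≠ .psu n := by
  intro n hn
  rcases h with h | h | h | h | h | h <;> rw [h] at hn <;> cases hn

section

variable {t t' : Fam} {p f i j v f' i' H c c' g : ℕ}

theorem Base.q3 (h : Base t p f i j t' v f' i' H) : 3 ≤ p ^ f ∧ p ^ f % 2 = 1 := f_q h.p_prime h.p_ne h.f_pos

theorem Base.u2 (h : Base t p f i j t' v f' i' H) : 2 ≤ v ^ f' :=
  h.v_prime.two_le.trans (Nat.le_self_pow (by have := h.f'_pos; omega) v)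

theorem Base.cop (h : Base t p f i j t' v f' i' H) : Nat.Coprime (v ^ f') (p ^ f) :=
  Nat.Coprime.pow _ _ ((Nat.coprime_primes h.v_prime h.p_prime).2 h.vp)

/-- the classes of the primes of the primitive part -/
theorem RowD.cls_eq (hr : RowD t (p ^ f) i j c c' g) (ht : SDL t) (hq3 : 3 ≤ p ^ f) (hq2 : p ^ f % 2 = 1) {r : ℕ}
    (hrp : r.Prime) (hd : r ∣ KF c (p ^ f)) : cls t (p ^ f) r = i := by
  rw [cls_ord ht.ne_psu, (ord_of_K hr.hc hq3 hq2 hrp hd).1, hr.ii]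

theorem RowD.cls_eq' (hr : RowD t (p ^ f) i j c c' g) (ht : SDL t) (hq3 : 3 ≤ p ^ f) (hq2 : p ^ f % 2 = 1) {r : ℕ}
    (hrp : r.Prime) (hd : r ∣ KF c' (p ^ f)) : cls t (p ^ f) r = j := by
  rw [cls_ord ht.ne_psu, (ord_of_K hr.hc' hq3 hq2 hrp hd).1, hr.jj]

theorem RowD.K_dvd_i (hr : RowD t (p ^ f) i j c c' g) (hq3 : 3 ≤ p ^ f) (hq2 : p ^ f % 2 = 1) :
    KF c (p ^ f) ∣ ttor t (p ^ f) i := by
  refine (KF_four hr.hc hq3 hq2 hr.hg).dvd_of_dvd_mul_right ?_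
  rw [hr.eqi, FF_eq hr.hc hq3 hq2]
  exact Dvd.intro _ rfl

theorem RowD.K_dvd_j (hr : RowD t (p ^ f) i j c c' g) (hq3 : 3 ≤ p ^ f) (hq2 : p ^ f % 2 = 1) :
    KF c' (p ^ f) ∣ ttor t (p ^ f) j := by
  refine (KF_four hr.hc' hq3 hq2 hr.hg).dvd_of_dvd_mul_right ?_
  rw [hr.eqj, FF_eq hr.hc' hq3 hq2]
  exact Dvd.intro _ rfl

/-- **The primitive part divides `P`.** -/
theorem Base.K_dvd (h : Base t p f i j t' v f' i' H) (hr : RowD t (p ^ f) i j c c' g) :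
    KF c (p ^ f) ∣ ttor t' (v ^ f') i' := by
  obtain ⟨hq3, hq2⟩ := h.q3
  have h1 := hr.K_dvd_i hq3 hq2
  rw [h.eqM] at h1
  refine Nat.Coprime.dvd_of_dvd_mul_left ?_ h1
  refine Nat.coprime_of_dvd fun r hrp hd => ?_
  exact h.copH r hrp (hr.cls_eq h.sd hq3 hq2 hrp hd)

end

end Cfsg.Agent.R2.Spec.SD
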