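import Cfsg.Agent.R2.Spec.SD.Small

/-!
# Small ranks (helper10): the relation of two isolated numbers of `S`, with sizes
-/

set_option autoImplicit false

namespace Cfsg.Agent.R2.Spec.SD

open Cfsg Cfsg.Agent.H426.LieFam Cfsg.Agent.R2.Spec Cfsg.Agent.R2.Spec.P1 Cfsg.Agent.R2.Spec.F1 Cfsg.Agent.R2.Spec.E

/-- the exponent of the lower bound -/
def lowE : Fam → ℕ
  | .psl m => m - 2
  | .psu m => m - 2
  | .oplus m => m - 1
  | .ominus m => m - 1
  | _ => 0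

theorem low_psl {m u i' : ℕ} (hu : 2 ≤ u) (hm : 4 ≤ m) (hi : top (.psl m) i') :
    u ^ (m - 2) * (u - 1) ≤ Nat.gcd m (u - 1) * ttor (.psl m) u i' := by
  obtain ⟨h1, h2⟩ := val_psl (n := m) (q := u) (by omega) hu
  obtain ⟨d, rfl⟩ : ∃ d, m = d + 2 := ⟨m - 2, by omega⟩
  rw [show d + 2 - 1 = d + 1 by omega] at h2
  rw [Nat.add_sub_cancel]
  obtain ⟨w, rfl⟩ : ∃ w, u = w + 1 := ⟨u - 1, by omega⟩
  rw [Nat.add_sub_cancel] at *
  have hp := Nat.one_le_pow d (w + 1) (by omega)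
  rcases hi with ⟨-, rfl | h⟩
  · refine Nat.le_of_mul_le_mul_right (c := w) ?_ (by omega)
    have e : (w + 1) ^ (d + 2) = (w + 1) ^ d * (w + 1) ^ 2 := pow_add _ _ _
    have h3 : Nat.gcd (d + 2) w * ttor (.psl (d + 2)) (w + 1) (d + 2) * w = (w + 1) ^ (d + 2) - 1 := by
      rw [← h1]; ring
    rw [h3, e]
    have : (w + 1) ^ d * w * w + 1 ≤ (w + 1) ^ d * (w + 1) ^ 2 := by nlinarith
    omega
  · obtain rfl : i' = d + 1 := by omega
    rw [mul_comm (Nat.gcd _ _), h2, pow_succ]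
    have : (w + 1) ^ d * (w + 1) = (w + 1) ^ d * w + (w + 1) ^ d := by ring
    omega

theorem low_psu {m u i' : ℕ} (hu : 2 ≤ u) (hm : 4 ≤ m) (hi : top (.psu m) i') :
    u ^ (m - 2) * (u - 1) ≤ Nat.gcd m (u + 1) * ttor (.psu m) u i' := by
  obtain ⟨h1, h2⟩ := val_psu (n := m) (q := u) (by omega) hu
  obtain ⟨d, rfl⟩ : ∃ d, m = d + 2 := ⟨m - 2, by omega⟩
  rw [show d + 2 - 1 = d + 1 by omega] at h2
  rw [Nat.add_sub_cancel]
  obtain ⟨w, rfl⟩ : ∃ w, u = w + 1 := ⟨u - 1, by omega⟩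
  rw [Nat.add_sub_cancel]
  have hp := Nat.one_le_pow d (w + 1) (by omega)
  rcases hi with ⟨-, rfl | h⟩
  · refine Nat.le_of_mul_le_mul_right (c := w + 1 + 1) ?_ (by omega)
    have e : (w + 1) ^ (d + 2) = (w + 1) ^ d * (w + 1) ^ 2 := pow_add _ _ _
    have h3 : (w + 1) ^ (d + 2) - 1 ≤ Nat.gcd (d + 2) (w + 1 + 1) * ttor (.psu (d + 2)) (w + 1) (d + 2) * (w + 1 + 1) := by
      have : Nat.gcd (d + 2) (w + 1 + 1) * ttor (.psu (d + 2)) (w + 1) (d + 2) * (w + 1 + 1) =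
        ttor (.psu (d + 2)) (w + 1) (d + 2) * (Nat.gcd (d + 2) (w + 1 + 1) * (w + 1 + 1)) := by ring
      rw [this, h1]
      split_ifs <;> omega
    refine le_trans ?_ h3
    rw [e]
    have : (w + 1) ^ d * w * (w + 1 + 1) + 1 ≤ (w + 1) ^ d * (w + 1) ^ 2 := by nlinarith
    omega
  · obtain rfl : i' = d + 1 := by omega
    rw [mul_comm (Nat.gcd _ _), h2, pow_succ]
    have : (w + 1) ^ d * (w + 1) = (w + 1) ^ d * w + (w + 1) ^ d := by ring
    split_ifs <;> omega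

theorem low_oplus {m u i' : ℕ} (hu : 2 ≤ u) (hm : 4 ≤ m) (hm2 : m % 2 = 1) (hi : top (.oplus m) i') :
    u ^ (m - 1) * (u - 1) ≤ Nat.gcd 4 (u ^ m - 1) * ttor (.oplus m) u i' := by
  obtain ⟨h1, h2⟩ := val_oplus_odd (n := m) (q := u) (by omega) hm2 hu
  have e : u ^ m = u ^ (m - 1) * u := by rw [← pow_succ]; congr 1; omega
  have hp := Nat.one_le_pow (m - 1) u (by omega)
  obtain ⟨w, rfl⟩ : ∃ w, u = w + 1 := ⟨u - 1, by omega⟩
  rw [Nat.add_sub_cancel]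
  rcases hi with ⟨rfl, -⟩ | rfl | ⟨-, h0⟩
  · rw [mul_comm (Nat.gcd _ _), h1, e, mul_add]
    omega
  · rw [mul_comm (Nat.gcd _ _), h2]
    nlinarith
  · omega

theorem low_ominus {m u i' : ℕ} (hu : 2 ≤ u) (hm : 4 ≤ m) (hi : top (.ominus m) i') :
    u ^ (m - 1) * (u - 1) ≤ Nat.gcd 4 (u ^ m + 1) * ttor (.ominus m) u i' := by
  obtain ⟨h1, h2, h3⟩ := val_ominus (n := m) (q := u) (by omega) hu
  have e : u ^ m = u ^ (m - 1) * u := by rw [← pow_succ]; congr 1; omega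
  have hp := pow_ge (d := m - 1) hu (by omega)
  obtain ⟨w, rfl⟩ : ∃ w, u = w + 1 := ⟨u - 1, by omega⟩
  rw [Nat.add_sub_cancel] at *
  rcases hi with rfl | rfl | ⟨rfl, -⟩
  · rw [mul_comm (Nat.gcd _ _), h1, e, mul_add]
    omega
  · rw [mul_comm (Nat.gcd _ _), h2]
    exact Nat.mul_le_mul_right _ (by omega)
  · rw [mul_comm (Nat.gcd _ _), h3]
    obtain ⟨x, hx⟩ : ∃ x, (w + 1) ^ (m - 1) = x + 1 := ⟨(w + 1) ^ (m - 1) - 1, by omega⟩
    have hx2 : w ≤ x := by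
      have := Nat.le_self_pow (show m - 1 ≠ 0 by omega) (w + 1)
      omega
    rw [hx, Nat.add_sub_cancel]
    nlinarith

/-- the relation, orthogonal types -/
theorem snum_D {t' : Fam} {m u i' j' : ℕ} (hu : 2 ≤ u) (hr : 4 ≤ rk t')
    (ht : (t' = .oplus m ∧ m % 2 = 1) ∨ t' = .ominus m) (hi : top t' i') (hj : top t' j') (hij : i' ≠ j') :
    ∃ k d s a' b' c', SNum t' u i' j' k d s a' b' c' ∧ 2 ≤ k ∧ d ∣ 4 ∧
      u ^ lowE t' * (u - 1) ≤ d * ttor t' u i' ∧ u ^ lowE t' * (u - 1) ≤ d * ttor t' u j' := by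
  rcases ht with ⟨rfl, hm⟩ | rfl
  · change 4 ≤ m at hr
    have hi' : (i' = m ∧ m % 2 = 1) ∨ i' = 2 * (m - 1) ∨ (i' = m - 1 ∧ m % 2 = 0) := hi
    have hj' : (j' = m ∧ m % 2 = 1) ∨ j' = 2 * (m - 1) ∨ (j' = m - 1 ∧ m % 2 = 0) := hj
    have b1 := low_oplus hu hr hm hi
    have b2 := low_oplus hu hr hm hj
    obtain ⟨e, he, h1⟩ := lin_oplus_odd (n := m) (q := u) (by omega) hm hu
    have hS : SNum (.oplus m) u m (2 * (m - 1)) 2 (Nat.gcd 4 (u ^ m - 1)) 1 (u + 1) u (-(e : ℤ)) := by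
      refine ⟨.D1 1 (Or.inl rfl) _ (Nat.gcd_dvd_left _ _) _ ?_, h1.eq, fun h => absurd h (by norm_num),
        fun h => absurd h (by norm_num), fun _ h => absurd h (by norm_num), fun h => by obtain ⟨m, h | h⟩ := h <;> exact Fam.noConfusion h, fun h => by
          obtain ⟨m', h | h | ⟨h, h'⟩⟩ := h
          · exact Fam.noConfusion h
          · exact Fam.noConfusion h
          · cases h
            omega⟩
      rw [abs_neg, abs_natCast']
      exact_mod_cast (by rw [mul_comm]; exact he)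
    rcases Nat.lt_or_ge i' (m + 1) with h5 | h5
    · obtain rfl : i' = m := by omega
      obtain rfl : j' = 2 * (i' - 1) := by omega
      exact ⟨_, _, _, _, _, _, hS, le_rfl, Nat.gcd_dvd_left _ _, b1, b2⟩
    · obtain rfl : i' = 2 * (m - 1) := by omega
      obtain rfl : j' = m := by omega
      obtain ⟨s', h3⟩ := hS.swap (fun _ h => absurd h (by norm_num))
      exact ⟨_, _, _, _, _, _, h3, le_rfl, Nat.gcd_dvd_left _ _, b1, b2⟩
  · change 4 ≤ m at hr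
    have hi' : i' = 2 * m ∨ i' = 2 * (m - 1) ∨ (i' = m - 1 ∧ m % 2 = 0) := hi
    have hj' : j' = 2 * m ∨ j' = 2 * (m - 1) ∨ (j' = m - 1 ∧ m % 2 = 0) := hj
    have b1 := low_ominus hu hr hi
    have b2 := low_ominus hu hr hj
    obtain ⟨e, he, h1⟩ := lin_ominus (n := m) (q := u) (by omega) hu
    obtain ⟨e2, he2, h2⟩ := lin_ominus' (n := m) (q := u) (by omega) hu
    obtain ⟨e3, he3, h3⟩ := lin_ominus'' (n := m) (q := u) (by omega) hu
    have hcast : ((u - 1 : ℕ) : ℤ) = (u : ℤ) + -1 := by push_cast [Nat.cast_sub (show 1 ≤ u by omega)]; ring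
    have hS1 : SNum (.ominus m) u (2 * m) (2 * (m - 1)) 2 (Nat.gcd 4 (u ^ m + 1)) (-1) (u + -1) u (-(e : ℤ)) := by
      refine ⟨.D1 (-1) (Or.inr rfl) _ (Nat.gcd_dvd_left _ _) _ ?_, h1.eq, fun h => absurd h (by norm_num),
        fun h => absurd h (by norm_num), fun _ _ => ⟨m, rfl, fun _ => ⟨rfl, rfl⟩⟩,
        fun h => by obtain ⟨m, h | h⟩ := h <;> exact Fam.noConfusion h,
        fun h => by obtain ⟨m, h | h | ⟨h, -⟩⟩ := h <;> exact Fam.noConfusion h⟩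
      rw [abs_neg, abs_natCast', ← hcast]
      exact_mod_cast (by rw [mul_comm]; exact he)
    have hS2 : SNum (.ominus m) u (2 * m) (m - 1) 2 (Nat.gcd 4 (u ^ m + 1)) 1 (u + 1) u e2 := by
      refine ⟨.D1 1 (Or.inl rfl) _ (Nat.gcd_dvd_left _ _) _ ?_, h2, fun h => absurd h (by norm_num),
        fun h => absurd h (by norm_num), fun _ h => absurd h (by norm_num), fun h => by obtain ⟨m, h | h⟩ := h <;> exact Fam.noConfusion h,
        fun h => by obtain ⟨m, h | h | ⟨h, -⟩⟩ := h <;> exact Fam.noConfusion h⟩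
      rw [abs_natCast']
      exact_mod_cast (by rw [mul_comm]; exact he2)
    have hS3 : SNum (.ominus m) u (2 * (m - 1)) (m - 1) 3 (Nat.gcd 4 (u ^ m + 1)) 1 (u + 1) (u - 1) e3 := by
      refine ⟨.E1 1 (Or.inl rfl) _ (Nat.gcd_dvd_left _ _) _ ?_, h3, fun h => absurd h (by norm_num),
        fun h => absurd h (by norm_num), fun h => absurd h (by norm_num), fun h => by obtain ⟨m, h | h⟩ := h <;> exact Fam.noConfusion h,
        fun h => by obtain ⟨m, h | h | ⟨h, -⟩⟩ := h <;> exact Fam.noConfusion h⟩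
      have hcast' : ((u - 1 : ℕ) : ℤ) = (u : ℤ) - 1 := by push_cast [Nat.cast_sub (show 1 ≤ u by omega)]; ring
      rw [abs_natCast', ← hcast']
      exact_mod_cast (by rw [mul_comm]; exact he3)
    rcases hi' with rfl | rfl | ⟨rfl, hm⟩
    · rcases hj' with rfl | rfl | ⟨rfl, hm⟩
      · exact absurd rfl hij
      · exact ⟨_, _, _, _, _, _, hS1, le_rfl, Nat.gcd_dvd_left _ _, b1, b2⟩
      · exact ⟨_, _, _, _, _, _, hS2, le_rfl, Nat.gcd_dvd_left _ _, b1, b2⟩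
    · rcases hj' with rfl | rfl | ⟨rfl, hm⟩
      · obtain ⟨s', h4⟩ := hS1.swap (fun _ _ h => by omega)
        exact ⟨_, _, _, _, _, _, h4, le_rfl, Nat.gcd_dvd_left _ _, b1, b2⟩
      · exact absurd rfl hij
      · exact ⟨_, _, _, _, _, _, hS3, by norm_num, Nat.gcd_dvd_left _ _, b1, b2⟩
    · rcases hj' with rfl | rfl | ⟨rfl, hm⟩
      · obtain ⟨s', h4⟩ := hS2.swap (fun _ h => absurd h (by norm_num))
        exact ⟨_, _, _, _, _, _, h4, le_rfl, Nat.gcd_dvd_left _ _, b1, b2⟩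
      · obtain ⟨s', h4⟩ := hS3.swap (fun h => absurd h (by norm_num))
        exact ⟨_, _, _, _, _, _, h4, by norm_num, Nat.gcd_dvd_left _ _, b1, b2⟩
      · exact absurd rfl hij

/-- **The relation with sizes.** -/
theorem snumX {t' : Fam} {u i' j' : ℕ} (hu : 2 ≤ u) (hr : RkS t') (hi : top t' i') (hj : top t' j') (hij : i' ≠ j') :
    ∃ (k d : ℕ) (s a' b' c' : ℤ), SNum t' u i' j' k d s a' b' c' ∧
      ((k = 1 ∧ a' = 1 ∧ b' = 1 ∧ |c'| ≤ 2) ∨
        (k = 0 ∧ 1 ≤ d ∧ d ≤ u + 1 ∧ (d : ℤ) * |c'| ≤ u + 1 ∧ (∃ m, (t' = .psl m ∨ t' = .psu m) ∧ d ≤ m) ∧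
          u ^ lowE t' * (u - 1) ≤ d * ttor t' u i' ∧ u ^ lowE t' * (u - 1) ≤ d * ttor t' u j') ∨
        (2 ≤ k ∧ 1 ≤ d ∧ d ≤ 4 ∧ (d : ℤ) * |c'| ≤ 2 * (u + 1) ^ 2 ∧ (∃ m, t' = .oplus m ∨ t' = .ominus m) ∧
          u ^ lowE t' * (u - 1) ≤ d * ttor t' u i' ∧ u ^ lowE t' * (u - 1) ≤ d * ttor t' u j')) := by
  by_cases hD : ∃ m, (t' = .oplus m ∧ m % 2 = 1) ∨ t' = .ominus m
  · obtain ⟨m, hm⟩ := hD
    have hr4 : 4 ≤ rk t' := by
      rcases hr with h | h | h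
      · exact h
      · rcases hm with ⟨h', -⟩ | h' <;> rw [h'] at h <;> cases h
      · rcases hm with ⟨h', -⟩ | h' <;> rw [h'] at h <;> cases h
    obtain ⟨k, d, s, a', b', c', hS, hk, hd4, b1, b2⟩ := snum_D hu hr4 hm hi hj hij
    refine ⟨k, d, s, a', b', c', hS, Or.inr (Or.inr ⟨hk, Nat.pos_of_dvd_of_pos hd4 (by norm_num),
      Nat.le_of_dvd (by norm_num) hd4, ?_, ⟨m, ?_⟩, b1, b2⟩)⟩
    · have hrel := hS.rel
      have hu' : (2 : ℤ) ≤ u := by exact_mod_cast hu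
      cases hrel with
      | A1 => omega
      | A2 => omega
      | C => omega
      | D1 _ hs _ hd4 _ hd => rw [hd]; rcases hs with rfl | rfl <;> nlinarith
      | D2 _ hs _ hd4 _ hd => rw [hd]; rcases hs with rfl | rfl <;> nlinarith
      | E1 _ hs _ hd4 _ hd => rw [hd]; rcases hs with rfl | rfl <;> nlinarith
    · rcases hm with ⟨h, -⟩ | h
      · exact Or.inl h
      · exact Or.inr h
  · obtain ⟨k, d, s, a', b', c', hS⟩ := snum_rk hu hr hi hj hij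
    refine ⟨k, d, s, a', b', c', hS, ?_⟩
    obtain ⟨ha1', ha2', hb1', hb2', hab', hba', hd0, -, hk1, hc', hk3, hc0'⟩ := hS.rel.sz hu
    by_cases hL : ∃ m, t' = .psl m ∨ t' = .psu m
    · right; left
      have hk0 := hS.lk hL
      have hdc := hd0 hk0
      have hr4 : 4 ≤ rk t' := by
        obtain ⟨m, hm⟩ := hL
        rcases hr with h | h | h
        · exact h
        · rcases hm with h' | h' <;> rw [h'] at h <;> cases h
        · rcases hm with h' | h' <;> rw [h'] at h <;> cases h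
      rcases hS.lin hk0 with ⟨m, rfl, -, rfl, -⟩ | ⟨m, rfl, -, rfl, -⟩
      · have hm : 4 ≤ m := hr4
        refine ⟨hk0, g_pos (by omega) _, ?_, hdc, ⟨m, Or.inl rfl, gm_le (by omega) _⟩, low_psl hu hm hi, low_psl hu hm hj⟩
        exact (Nat.le_of_dvd (by omega) (Nat.gcd_dvd_right m (u - 1))).trans (by omega)
      · have hm : 4 ≤ m := hr4
        refine ⟨hk0, g_pos (by omega) _, ?_, hdc, ⟨m, Or.inr rfl, gm_le (by omega) _⟩, low_psu hu hm hi, low_psu hu hm hj⟩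
        exact Nat.le_of_dvd (by omega) (Nat.gcd_dvd_right m (u + 1))
    · left
      have h1 : k = 1 := by
        refine hS.sp ?_
        cases t' with
        | psl m => exact absurd ⟨m, Or.inl rfl⟩ hL
        | psu m => exact absurd ⟨m, Or.inr rfl⟩ hL
        | psp m => exact ⟨m, Or.inl rfl⟩
        | oodd m => exact ⟨m, Or.inr (Or.inl rfl)⟩
        | oplus m =>
          refine ⟨m, Or.inr (Or.inr ⟨rfl, ?_⟩)⟩
          by_contra hcon
          exact hD ⟨m, Or.inl ⟨rfl, by omega⟩⟩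
        | ominus m => exact absurd ⟨m, Or.inr rfl⟩ hD
        | _ => exact hi.elim
      obtain ⟨e1, e2, e3⟩ := hk1 h1
      exact ⟨h1, e2, e3, e1⟩

end Cfsg.Agent.R2.Spec.SD
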