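import Cfsg.Agent.R2.Spec.SD.SVal

/-!
# Small ranks (helper10): `q` is at least `256`
-/

set_option autoImplicit false

namespace Cfsg.Agent.R2.Spec.SD

open Cfsg Cfsg.Agent.H426.LieFam Cfsg.Agent.R2.Spec Cfsg.Agent.R2.Spec.P1 Cfsg.Agent.R2.Spec.F1 Cfsg.Agent.R2.Spec.E

theorem dvd_of_two {M g X F : ℕ} (hg : g = 2 ∨ g = 4) (h1 : M * g = F) (h2 : X * 2 = F) : M ∣ X := by
  rcases hg with rfl | rfl
  · exact ⟨1, by omega⟩
  · exact ⟨2, by omega⟩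

theorem half {x : ℕ} (h : x % 2 = 0) : x / 2 * 2 = x := Nat.div_mul_cancel (Nat.dvd_of_mod_eq_zero h)

section

variable {t t' : Fam} {p f i j v f' i' H c c' g : ℕ}

/-- **The finite search.** -/
theorem Base.small (h : Base t p f i j t' v f' i' H) (hr : RowD t (p ^ f) i j c c' g) :
    256 ≤ p ^ f ∨ (p ^ f = 3 ∧ ttor t' (v ^ f') i' = 41 ∧ v ^ f' = 4 ∧ (c = 2 ∨ c = 5)) := by
  by_contra hcon
  rw [not_or] at hcon
  obtain ⟨hq, hex⟩ := hcon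
  obtain ⟨hq3, hq2⟩ := h.q3
  have hu := h.u2
  have hK := h.K_dvd hr
  have hPM : ttor t' (v ^ f') i' ∣ ttor t (p ^ f) i := Dvd.intro_left _ h.eqM.symm
  have hco := h.cop
  obtain ⟨q, hqe⟩ : ∃ q, q = p ^ f := ⟨_, rfl⟩
  obtain ⟨u, hue⟩ : ∃ u, u = v ^ f' := ⟨_, rfl⟩
  have heq := hr.eqi
  rw [← hqe] at hq hex hq3 hq2 hK hPM hco heq
  rw [← hue] at hu hex hK hPM hco
  obtain ⟨P, hPe⟩ : ∃ P, P = ttor t' u i' := ⟨_, rfl⟩
  have hval : Val u P := by rw [hPe]; exact val_of hu h.rk3 h.topi'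
  have o4 : q ^ 4 % 2 = 1 := by rw [Nat.pow_mod, hq2]
  have o5 : q ^ 5 % 2 = 1 := by rw [Nat.pow_mod, hq2]
  have o6 : q ^ 6 % 2 = 1 := by rw [Nat.pow_mod, hq2]
  rw [← hPe] at hex hK hPM
  have key : (c ≤ 2 ∧ P ∣ MM c q) ∨ (c = 5 ∧ P ∣ MN 2 q) ∨ ((c = 3 ∨ c = 4) ∧ t = .ominus 6 ∧ P ∣ MM c q) := by
    have e0 : MM 0 q * 2 = FF 0 q := half (by omega)
    have e1 : MM 1 q * 2 = FF 1 q := half (by omega)
    have e2 : MM 2 q * 2 = FF 2 q := half (by rw [Nat.mul_mod, show (q ^ 4 + 1) % 2 = 0 by omega, Nat.zero_mul])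
    have e3 : MM 3 q * 2 = FF 3 q := half (by omega)
    have e4 : MM 4 q * 2 = FF 4 q := half (by rw [Nat.mul_mod, show (q ^ 5 + 1) % 2 = 0 by omega, Nat.zero_mul])
    have e5 : MN 2 q * 2 = FF 5 q := half (by rw [Nat.mul_mod, show (q ^ 4 + 1) % 2 = 0 by omega, Nat.zero_mul])
    rcases hr.typ with ⟨-, -, ⟨rfl, -⟩ | ⟨rfl, -⟩⟩ | ⟨-, ⟨rfl, -⟩ | ⟨rfl, -⟩⟩ | ⟨-, ⟨rfl, -⟩ | ⟨rfl, -⟩⟩ |
      ⟨ht, -, ⟨rfl, -⟩ | ⟨rfl, -⟩⟩
    · exact Or.inl ⟨by norm_num, hPM.trans (dvd_of_two hr.hg heq e0)⟩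
    · exact Or.inl ⟨by norm_num, hPM.trans (dvd_of_two hr.hg heq e1)⟩
    · exact Or.inl ⟨by norm_num, hPM.trans (dvd_of_two hr.hg heq e0)⟩
    · exact Or.inl ⟨by norm_num, hPM.trans (dvd_of_two hr.hg heq e2)⟩
    · exact Or.inl ⟨by norm_num, hPM.trans (dvd_of_two hr.hg heq e1)⟩
    · exact Or.inr (Or.inl ⟨rfl, hPM.trans (dvd_of_two hr.hg heq e5)⟩)
    · exact Or.inr (Or.inr ⟨Or.inl rfl, ht, hPM.trans (dvd_of_two hr.hg heq e3)⟩)
    · exact Or.inr (Or.inr ⟨Or.inr rfl, ht, hPM.trans (dvd_of_two hr.hg heq e4)⟩)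
  have fin : q = 3 ∧ P = 41 ∧ u = 4 := by
    rcases key with ⟨hc, hM⟩ | ⟨rfl, hM⟩ | ⟨hc, ht, hM⟩
    · have hK' : KF c q = KK c q := by
        have : c = 0 ∨ c = 1 ∨ c = 2 := by omega
        rcases this with rfl | rfl | rfl <;> rfl
      rw [hK'] at hK
      exact small5 (by omega) hq3 hq2 (by omega) hu hco hval hK (Or.inl hM)
    · have hK' : KF 5 q = KK 2 q := rfl
      rw [hK'] at hK
      refine small5 (c := 2) (by norm_num) hq3 hq2 (by omega) hu hco hval hK (Or.inr ⟨?_, hM⟩)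
      change (q ^ 4 + 1) * (q - 1) / 2 ≠ 0
      have h1 : 2 ≤ (q ^ 4 + 1) * (q - 1) := by nlinarith [Nat.one_le_pow 4 q (by omega), show 2 ≤ q - 1 by omega]
      omega
    · have hv5 : Val5 u P := by
        rw [hPe]
        exact val5_of hu (h.five (Or.inr (Or.inr ht))) h.topi'
      rcases hc with rfl | rfl
      · exact small6 (c := 0) (by norm_num) hq3 hq2 (by omega) hu hco hv5 hK hM
      · exact small6 (c := 1) (by norm_num) hq3 hq2 (by omega) hu hco hv5 hK hM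
  refine hex ⟨fin.1, fin.2.1, fin.2.2, ?_⟩
  rw [fin.1, fin.2.1] at hK
  have hc := hr.hc
  by_contra hcc
  have h5 : c = 0 ∨ c = 1 ∨ c = 3 ∨ c = 4 := by omega
  rcases h5 with rfl | rfl | rfl | rfl
  · exact absurd hK (by decide)
  · exact absurd hK (by decide)
  · exact absurd hK (by decide)
  · exact absurd hK (by decide)

end

end Cfsg.Agent.R2.Spec.SD
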