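import Mathlib.Tactic
import Cfsg.Agent.R2.Spec.SD.Tab
import Cfsg.Agent.R2.Spec.SD.Run1
import Cfsg.Agent.R2.Spec.SD.Run2
import Cfsg.Agent.R2.Spec.SD.Run3

/-!
# Small ranks (helper10): the finite search, soundness

`small5`, `small6` : for `q` odd, `3 ≤ q < 256`, `u` prime to `q`, no isolated number `P` of `S` is a multiple of the
primitive part `KK c q` and a divisor of the isolated number `MM c q` (or `MN c q`) of `L`, except `q = 3`, `P = 41`,
`u = 4`.
-/

set_option autoImplicit false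

namespace Cfsg.Agent.R2.Spec.SD

theorem PT.all_of_mem {g : ℕ → ℕ → Bool} {c q : ℕ} : ∀ {t : PT}, t.all g = true → t.mem c q = true → g c q = true
  | .leaf c' q', h1, h2 => by
    simp only [PT.mem, Bool.and_eq_true] at h2
    obtain ⟨e1, e2⟩ := h2
    rw [Nat.eq_of_beq_eq_true e1, Nat.eq_of_beq_eq_true e2]
    exact h1
  | .node n l r, h1, h2 => by
    simp only [PT.all, Bool.and_eq_true] at h1
    simp only [PT.mem, Bool.or_eq_true] at h2
    rcases h2 with h2 | h2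
    · exact PT.all_of_mem h1.1 h2
    · exact PT.all_of_mem h1.2 h2

/-- a leaf which is reached -/
theorem PT.ok_lf {R u P c q : ℕ} (hP : 0 < P) (hK : KK c q ∣ P) (hR : P ≤ R * KK c q) :
    ∀ {t : PT}, t.good = true → t.mem c q = true → t.ok R u P = true → lf u P c q = true
  | .leaf c' q', _, h2, h3 => by
    simp only [PT.mem, Bool.and_eq_true] at h2
    obtain ⟨e1, e2⟩ := h2
    rw [Nat.eq_of_beq_eq_true e1, Nat.eq_of_beq_eq_true e2]
    exact h3
  | .node n l r, h1, h2, h3 => by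
    simp only [PT.good, Bool.and_eq_true] at h1
    obtain ⟨⟨⟨g1, g2⟩, g3⟩, g4⟩ := h1
    simp only [PT.mem, Bool.or_eq_true] at h2
    simp only [PT.ok, Bool.or_eq_true, Bool.and_eq_true] at h3
    have hn : KK c q ∣ n := by
      have h4 : Nat.beq (n % KK c q) 0 = true := by
        rcases h2 with h2 | h2
        · exact PT.all_of_mem (g := fun c q => Nat.beq (n % KK c q) 0) g1 h2
        · exact PT.all_of_mem (g := fun c q => Nat.beq (n % KK c q) 0) g2 h2
      exact Nat.dvd_of_mod_eq_zero (Nat.eq_of_beq_eq_true h4)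
    rcases h3 with h3 | ⟨h3, h4⟩
    · exfalso
      have h5 : R * Nat.gcd P n < P := by rwa [Nat.blt_eq] at h3
      have h6 := Nat.le_of_dvd (Nat.gcd_pos_of_pos_left n hP) (Nat.dvd_gcd hK hn)
      have h7 := Nat.mul_le_mul_left R h6
      omega
    · rcases h2 with h2 | h2
      · exact PT.ok_lf hP hK hR g3 h2 h3
      · exact PT.ok_lf hP hK hR g4 h2 h4

/-- what a leaf says -/
theorem lf_spec {u P c q : ℕ} (h : lf u P c q = true) (hK : KK c q ∣ P)
    (hM : P ∣ MM c q ∨ (MN c q ≠ 0 ∧ P ∣ MN c q)) (hc : Nat.Coprime u q) : q = 3 ∧ P = 41 ∧ u = 4 := by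
  have h1 : P % KK c q = 0 := Nat.mod_eq_zero_of_dvd hK
  have h2 : Nat.gcd u q = 1 := hc
  simp only [lf, h1, h2, Bool.or_eq_true, Bool.and_eq_true, bne_self_eq_false, Bool.false_eq_true, false_or,
    or_false] at h
  rcases h with ⟨h3, h4⟩ | ⟨⟨h3, h4⟩, h5⟩
  · exfalso
    rcases hM with hM | ⟨hM0, hM⟩
    · rw [Nat.mod_eq_zero_of_dvd hM] at h3
      simp at h3
    · rw [Nat.mod_eq_zero_of_dvd hM] at h4
      rcases h4 with h4 | h4
      · exact hM0 (Nat.eq_of_beq_eq_true h4)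
      · simp at h4
  · exact ⟨Nat.eq_of_beq_eq_true h3, Nat.eq_of_beq_eq_true h4, Nat.eq_of_beq_eq_true h5⟩

theorem lp_mem {R d : ℕ} {t : PT} : ∀ {n u P : ℕ}, lp R t d n = true → 2 ≤ u → u ≤ n + 1 → P ∈ V d u →
    t.ok R u P = true
  | 0, u, P, _, h2, h3, _ => by omega
  | n + 1, u, P, h1, h2, h3, h4 => by
    simp only [lp, Bool.and_eq_true, List.all_eq_true] at h1
    by_cases h5 : u = n + 2
    · subst h5
      exact h1.1 P h4
    · exact lp_mem h1.2 h2 (by omega) h4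

theorem lp3_mem {R s : ℕ} {t : PT} : ∀ {n u P : ℕ}, lp3 R t s n = true → 2 + s ≤ u → u ≤ n + 1 + s → P ∈ V3 u →
    t.ok R u P = true
  | 0, u, P, _, h2, h3, _ => by omega
  | n + 1, u, P, h1, h2, h3, h4 => by
    simp only [lp3, Bool.and_eq_true, List.all_eq_true] at h1
    by_cases h5 : u = n + 2 + s
    · subst h5
      exact h1.1 P h4
    · exact lp3_mem h1.2 h2 (by omega) h4

theorem two_pow_large {M : ℕ} {d0 : ℕ} (h0 : 2 * (d0 + 1) * M < 2 ^ d0) : ∀ {d : ℕ}, d0 ≤ d → 1 ≤ d0 →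
    2 * (d + 1) * M < 2 ^ d := by
  intro d hd hd0
  induction d, hd using Nat.le_induction with
  | base => exact h0
  | succ n hn ih =>
    have h1 : 2 * (n + 1 + 1) * M ≤ 2 * (2 * (n + 1) * M) := by
      have : 2 * (n + 1 + 1) * M ≤ (2 * (2 * (n + 1))) * M := Nat.mul_le_mul_right _ (by omega)
      calc 2 * (n + 1 + 1) * M ≤ (2 * (2 * (n + 1))) * M := this
        _ = _ := by ring
    rw [pow_succ]
    omega

theorem ok_five {d u P : ℕ} (hu : 2 ≤ u) (hd : 4 ≤ d) (hb : u ^ d ≤ 2 * (d + 1) * P) (hP : P ≤ 541216080128)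
    (hV : P ∈ V d u) : tree5.ok 640 u P = true := by
  have hb' : u ^ d ≤ 2 * (d + 1) * 541216080128 := hb.trans (Nat.mul_le_mul_left _ hP)
  by_cases h46 : 46 ≤ d
  · exfalso
    have h1 := two_pow_large (M := 541216080128) (d0 := 46) (by norm_num) h46 (by norm_num)
    have h2 := Nat.pow_le_pow_left hu d
    omega
  · have hex : ∀ d < 46, 4 ≤ d → ∃ p ∈ tab5, p.1 = d := by decide
    obtain ⟨p, hp, rfl⟩ := hex d (by omega) hd
    have h1 := List.all_eq_true.1 tab5_run p hp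
    have h2 := List.all_eq_true.1 tab5_bd p hp
    have h3 : 2 * (p.1 + 1) * 541216080128 < (p.2 + 1) ^ p.1 := by rwa [Nat.blt_eq] at h2
    have h4 : u < p.2 + 1 := by
      by_contra hcon
      have := Nat.pow_le_pow_left (show p.2 + 1 ≤ u by omega) p.1
      omega
    exact lp_mem h1 hu (by omega) hV

theorem ok_three {u P : ℕ} (hu : 2 ≤ u) (hb : u ^ 3 ≤ 8 * P) (hP : P ≤ 541216080128)
    (hV : P ∈ V3 u) : tree5.ok 640 u P = true := by
  have h4 : u < 16299 := by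
    by_contra hcon
    have := Nat.pow_le_pow_left (show 16299 ≤ u by omega) 3
    omega
  by_cases h1 : u ≤ 5601
  · exact lp3_mem run1 (by omega) (by omega) hV
  · by_cases h2 : u ≤ 10951
    · exact lp3_mem run2 (by omega) (by omega) hV
    · exact lp3_mem run3 (by omega) (by omega) hV

theorem ok_six {d u P : ℕ} (hu : 2 ≤ u) (hd : 5 ≤ d) (hb : u ^ d ≤ 2 * (d + 1) * P) (hP : P ≤ 137470998445313)
    (hV : P ∈ V d u) : tree6.ok 162560 u P = true := by
  have hb' : u ^ d ≤ 2 * (d + 1) * 137470998445313 := hb.trans (Nat.mul_le_mul_left _ hP)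
  by_cases h46 : 54 ≤ d
  · exfalso
    have h1 := two_pow_large (M := 137470998445313) (d0 := 54) (by norm_num) h46 (by norm_num)
    have h2 := Nat.pow_le_pow_left hu d
    omega
  · have hex : ∀ d < 54, 5 ≤ d → ∃ p ∈ tab6, p.1 = d := by decide
    obtain ⟨p, hp, rfl⟩ := hex d (by omega) hd
    have h1 := List.all_eq_true.1 tab6_run p hp
    have h2 := List.all_eq_true.1 tab6_bd p hp
    have h3 : 2 * (p.1 + 1) * 137470998445313 < (p.2 + 1) ^ p.1 := by rwa [Nat.blt_eq] at h2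
    have h4 : u < p.2 + 1 := by
      by_contra hcon
      have := Nat.pow_le_pow_left (show p.2 + 1 ≤ u by omega) p.1
      omega
    exact lp_mem h1 hu (by omega) hV

/-- the values of the isolated numbers of `S` -/
def Val (u P : ℕ) : Prop :=
  (∃ d, 4 ≤ d ∧ P ∈ V d u ∧ u ^ d ≤ 2 * (d + 1) * P) ∨ (P ∈ V3 u ∧ u ^ 3 ≤ 8 * P)

/-- the values of the isolated numbers of `S`, degree at least five -/
def Val5 (u P : ℕ) : Prop := ∃ d, 5 ≤ d ∧ P ∈ V d u ∧ u ^ d ≤ 2 * (d + 1) * P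

/-- **The finite search, dimension five.** -/
theorem small5 {c q u P : ℕ} (hc : c < 3) (hq3 : 3 ≤ q) (hq2 : q % 2 = 1) (hq : q < 256) (hu : 2 ≤ u)
    (hco : Nat.Coprime u q) (hV : Val u P) (hK : KK c q ∣ P) (hM : P ∣ MM c q ∨ (MN c q ≠ 0 ∧ P ∣ MN c q)) :
    q = 3 ∧ P = 41 ∧ u = 4 := by
  obtain ⟨k, rfl⟩ : ∃ k, q = 2 * k + 3 := ⟨(q - 3) / 2, by omega⟩
  obtain ⟨r1, r2, r3, r4, r5, r6⟩ := rat5 c hc k (by omega)
  have hP0 : 0 < P := by
    rcases hM with hM | ⟨h0, hM⟩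
    · exact Nat.pos_of_dvd_of_pos hM r5
    · exact Nat.pos_of_dvd_of_pos hM (Nat.pos_of_ne_zero h0)
  have hPR : P ≤ 640 * KK c (2 * k + 3) ∧ P ≤ 541216080128 := by
    rcases hM with hM | ⟨h0, hM⟩
    · have := Nat.le_of_dvd r5 hM
      omega
    · have := Nat.le_of_dvd (Nat.pos_of_ne_zero h0) hM
      omega
  have hok : tree5.ok 640 u P = true := by
    rcases hV with ⟨d, hd, h1, h2⟩ | ⟨h1, h2⟩
    · exact ok_five hu hd h2 hPR.2 h1
    · exact ok_three hu h2 hPR.2 h1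
  exact lf_spec (PT.ok_lf hP0 hK hPR.1 good5 (mem5 c hc k (by omega)) hok) hK hM hco

/-- **The finite search, dimension six.** -/
theorem small6 {c q u P : ℕ} (hc : c < 2) (hq3 : 3 ≤ q) (hq2 : q % 2 = 1) (hq : q < 256) (hu : 2 ≤ u)
    (hco : Nat.Coprime u q) (hV : Val5 u P) (hK : KK (c + 3) q ∣ P) (hM : P ∣ MM (c + 3) q) :
    q = 3 ∧ P = 41 ∧ u = 4 := by
  obtain ⟨k, rfl⟩ : ∃ k, q = 2 * k + 3 := ⟨(q - 3) / 2, by omega⟩
  obtain ⟨r1, r2, r5, r6⟩ := rat6 c hc k (by omega)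
  have hP0 : 0 < P := Nat.pos_of_dvd_of_pos hM r5
  have hPR := Nat.le_of_dvd r5 hM
  have hok : tree6.ok 162560 u P = true := by
    obtain ⟨d, hd, h1, h2⟩ := hV
    exact ok_six hu hd h2 (by omega) h1
  exact lf_spec (PT.ok_lf hP0 hK (by omega) good6 (mem6 c hc k (by omega)) hok) hK (Or.inl hM) hco

end Cfsg.Agent.R2.Spec.SD
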